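import Mathlib
import Cfsg.Agent.Chev.ChevBT
import Cfsg.Agent.Chev.EntSupp
import Cfsg.Agent.Chev.LangGrp

/-!
# Vectors of the adjoint module: root support, Cartan part, action of root elements
-/

set_option autoImplicit false

namespace Cfsg.Agent.FV

open Cfsg.Lie Cfsg.Lie.ChevalleyDatum Cfsg.Agent.Chev Matrix

variable (D : ChevalleyDatum)

section Ring
variable {A : Type*} [CommRing A]

/-- The value of the root `r` on the Cartan part of `v`. -/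
def rt (r : ℕ) (v : D.Idx → A) : A := ∑ i : D.Nd, (D.wt r i : A) * v (Sum.inl i)

/-- The root components of `v` lie in `Ψ`. -/
def Sup (Ψ : Set D.Rt) (v : D.Idx → A) : Prop := ∀ r : D.Rt, v (Sum.inr r) ≠ 0 → r ∈ Ψ

/-- The Cartan part of `v`. -/
def hp (v : D.Idx → A) : D.Idx → A := Sum.elim (fun i => v (Sum.inl i)) fun _ => 0

/-- The positive roots. -/
def Pos : Set D.Rt := {r | D.IsPosRoot r}

/-- The positive roots vanishing on the Cartan part of `v`. -/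
def Zr (v : D.Idx → A) : Set D.Rt := {r | D.IsPosRoot r ∧ rt D r v = 0}

/-- Standard form: the root components commute with the Cartan part. -/
def Std (v : D.Idx → A) : Prop := Sup D (Zr D v) v

/-- All components of `v` have `f`-weight at least one. -/
def Lge (f : D.Lat →+ ℝ) (v : D.Idx → A) : Prop := ∀ a, v a ≠ 0 → 1 ≤ f (D.wtI a)

/-- Closed sets of positive roots. -/
def Cls (Ψ : Set D.Rt) : Prop := (∀ r ∈ Ψ, D.IsPosRoot r) ∧
  ∀ r ∈ Ψ, ∀ s ∈ Ψ, ∀ (u : D.Rt) (k : ℕ), D.wt u = D.wt s + ((k : ℤ) + 1) • D.wt r → u ∈ Ψ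

variable {D}

theorem Sup.mono {Ψ Ψ' : Set D.Rt} {v : D.Idx → A} (h : Sup D Ψ v) (h' : Ψ ⊆ Ψ') : Sup D Ψ' v :=
  fun r hr => h' (h r hr)

theorem Sup.smul {Ψ : Set D.Rt} {v : D.Idx → A} (h : Sup D Ψ v) (c : A) : Sup D Ψ (c • v) :=
  fun r hr => h r (right_ne_zero_of_mul hr)

theorem hp_inl (v : D.Idx → A) (i : D.Nd) : hp D v (Sum.inl i) = v (Sum.inl i) := rfl

theorem hp_inr (v : D.Idx → A) (r : D.Rt) : hp D v (Sum.inr r) = 0 := rfl

theorem sup_hp (v : D.Idx → A) (Ψ : Set D.Rt) : Sup D Ψ (hp D v) := fun _ h => absurd rfl h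

theorem hp_eq_iff {v w : D.Idx → A} : hp D v = hp D w ↔ ∀ i, v (Sum.inl i) = w (Sum.inl i) :=
  ⟨fun h i => congrFun h (Sum.inl i), fun h => funext fun a => by rcases a with i | r; exacts [h i, rfl]⟩

theorem hp_eq_self {v : D.Idx → A} (h : Sup D ∅ v) : hp D v = v :=
  funext fun a => by rcases a with i | r; exacts [rfl, (not_not.1 (h r)).symm]

theorem hp_smul (c : A) (v : D.Idx → A) : hp D (c • v) = c • hp D v :=
  funext fun a => by rcases a with i | r; exacts [rfl, (mul_zero c).symm]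

theorem rt_congr {v w : D.Idx → A} (h : hp D v = hp D w) (r : ℕ) : rt D r v = rt D r w :=
  Finset.sum_congr rfl fun i _ => by rw [hp_eq_iff.1 h i]

theorem Zr_congr {v w : D.Idx → A} (h : hp D v = hp D w) : Zr D v = Zr D w :=
  Set.ext fun r => by simp only [Zr, Set.mem_ofPred_eq, rt_congr h]

theorem rt_hp (r : ℕ) (v : D.Idx → A) : rt D r (hp D v) = rt D r v := rfl

theorem rt_smul (r : ℕ) (c : A) (v : D.Idx → A) : rt D r (c • v) = c * rt D r v := by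
  simp [rt, Finset.mul_sum, mul_left_comm]

theorem rt_add (r : ℕ) (v w : D.Idx → A) : rt D r (v + w) = rt D r v + rt D r w := by
  simp [rt, mul_add, Finset.sum_add_distrib]

theorem rt_map {B : Type*} [CommRing B] (f : A →+* B) (r : ℕ) (v : D.Idx → A) :
    rt D r (f ∘ v) = f (rt D r v) := by simp [rt]

theorem rt_lin {u s r : ℕ} {k : ℤ} (h : D.wt u = D.wt s + k • D.wt r) (v : D.Idx → A) :
    rt D u v = rt D s v + k * rt D r v := by
  simp [rt, h, add_mul, Finset.sum_add_distrib, Finset.mul_sum, mul_assoc]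

theorem xR_mulVec_hp (r : D.Rt) (t : A) (v : D.Idx → A) :
    D.xR A r t *ᵥ hp D v = hp D v - (rt D r v * t) • D.eN A r := by
  have e : hp D v = ∑ i, v (Sum.inl i) • D.hN A (i : D.Nd) := funext fun a => by
    rcases a with j | s <;> simp [hp, hN_eq_single, Pi.single_apply]
  rw [e, Matrix.mulVec_sum, rt, Finset.sum_mul, Finset.sum_smul, ← Finset.sum_sub_distrib]
  refine Finset.sum_congr rfl fun i _ => ?_
  rw [Matrix.mulVec_smul, xR_mulVec_hN, smul_sub, smul_smul, wt]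
  ring_nf

end Ring

variable {D} [hG : D.Good] {K : Type*} [Field K]

variable (D K) in
/-- The group generated by the torus and the root subgroups of the roots in `S`. -/
def TX (S : Set D.Rt) : Subgroup (GL D.Idx K) := D.XS K S ⊔ D.diagonalSubgroup K

theorem XS_le_group (S : Set D.Rt) : D.XS K S ≤ D.group K := (D.rootBN K).XS_le_G S |>.trans' (by
  rw [rootBN_XS])

theorem TX_le_group (S : Set D.Rt) : TX D K S ≤ D.group K := sup_le (XS_le_group S) (D.rootBN K).H_le_G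

theorem rt_ng {A : Type*} [CommRing A] (r : D.Rt) (v : D.Idx → A) : rt D (D.ng r) v = -rt D r v := by
  simp [rt, wt_ng]

theorem cls_pos : Cls D (Pos D) := ⟨fun _ h => h, fun r hr s hs u k h =>
  D.isPos_of_lin (i := k + 1) (j := 1) hr hs k.succ_pos (by rw [h, add_comm]; simp)⟩

theorem cls_Zr (v : D.Idx → K) : Cls D (Zr D v) := ⟨fun _ h => h.1, fun r hr s hs u k h =>
  ⟨cls_pos.2 r hr.1 s hs.1 u k h, by rw [rt_lin h, hr.2, hs.2]; simp⟩⟩

omit hG in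
theorem Cls.inter {Ψ Ψ' : Set D.Rt} (h : Cls D Ψ) (h' : Cls D Ψ') : Cls D (Ψ ∩ Ψ') :=
  ⟨fun r hr => h.1 r hr.1, fun r hr s hs u k e => ⟨h.2 r hr.1 s hs.1 u k e, h'.2 r hr.2 s hs.2 u k e⟩⟩

omit hG in
theorem eq_hp_add (v : D.Idx → K) : v = hp D v + ∑ s : D.Rt, v (Sum.inr s) • D.eN K s := funext fun a => by
  rcases a with j | s <;> simp [hp, eN_eq_single, Pi.single_apply]

theorem X_mulVec_hp (r : D.Rt) (t : K) (v : D.Idx → K) :
    (D.X K r t).val *ᵥ hp D v = hp D v - (rt D r v * t) • D.eN K r := by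
  rw [coe_X_eq_xR, xR_mulVec_hp]

theorem X_mulVec_inr {r u : D.Rt} (t : K) {v : D.Idx → K}
    (h : ∀ s : D.Rt, v (Sum.inr s) ≠ 0 → ∀ k : ℕ, D.wt u ≠ D.wt s + ((k : ℤ) + 1) • D.wt r) :
    ((D.X K r t).val *ᵥ v) (Sum.inr u) = v (Sum.inr u) - if u = r then rt D r v * t else 0 := by
  conv_lhs => rw [eq_hp_add v, Matrix.mulVec_add, X_mulVec_hp, Matrix.mulVec_sum]
  rw [Pi.add_apply, Finset.sum_apply, Finset.sum_eq_single u]
  · by_cases h0 : v (Sum.inr u) = 0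
    · simp [h0, hp_inr, eN_inr]
    · rw [Matrix.mulVec_smul, mulVec_eN, Pi.smul_apply, D.X_entry_eq K r t (a := .inr u) (b := .inr u) (h u h0)]
      simp [hp_inr, eN_inr, sub_eq_neg_add]
  · intro s _ hs
    by_cases h0 : v (Sum.inr s) = 0
    · simp [h0]
    · rw [Matrix.mulVec_smul, mulVec_eN, Pi.smul_apply, D.X_entry_eq K r t (a := .inr u) (b := .inr s) (h s h0)]
      simp [hs.symm]
  · simp

theorem hp_X_mulVec {r : D.Rt} (t : K) {v : D.Idx → K} (h : v (Sum.inr (D.ng r)) = 0) :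
    hp D ((D.X K r t).val *ᵥ v) = hp D v := hp_eq_iff.2 fun j => by
  conv_lhs => rw [eq_hp_add v, Matrix.mulVec_add, X_mulVec_hp, Matrix.mulVec_sum]
  rw [Pi.add_apply, Finset.sum_apply, Finset.sum_eq_zero]
  · simp [hp_inl, eN_inl]
  · intro s _
    by_cases hs : s = D.ng r
    · simp [hs, h]
    · rw [Matrix.mulVec_smul, Pi.smul_apply, D.X_mulVec_eN_inl K hs, smul_zero]

theorem Sup.X {Ψ : Set D.Rt} {r : D.Rt} {v : D.Idx → K} (h : Sup D Ψ v) (hr : r ∈ Ψ ∨ rt D r v = 0)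
    (hc : ∀ s ∈ Ψ, ∀ (u : D.Rt) (k : ℕ), D.wt u = D.wt s + ((k : ℤ) + 1) • D.wt r → u ∈ Ψ) (t : K) :
    Sup D Ψ ((D.X K r t).val *ᵥ v) := fun u hu => by
  by_contra hn
  rw [X_mulVec_inr t fun s hs k e => hn (hc s (h s hs) u k e), not_not.1 (mt (h u) hn)] at hu
  rcases hr with hr | hr
  · rw [if_neg (by rintro rfl; exact hn hr)] at hu; simp at hu
  · simp [hr] at hu

theorem Cls.XS {Ψ : Set D.Rt} (hΨ : Cls D Ψ) {g : GL D.Idx K} (hg : g ∈ D.XS K Ψ) {v : D.Idx → K}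
    (h : Sup D Ψ v) : Sup D Ψ (g.val *ᵥ v) ∧ hp D (g.val *ᵥ v) = hp D v := by
  revert v
  refine D.XS_monoid_induction K (P := fun g => ∀ {v}, Sup D Ψ v → Sup D Ψ (g.val *ᵥ v) ∧
    hp D (g.val *ᵥ v) = hp D v) (fun h => by simpa using h) (fun r hr t v h => ⟨h.X (.inl hr) (hΨ.2 r hr) t,
      hp_X_mulVec t (not_not.1 fun e => (D.isPos_ng r).1 (hΨ.1 _ (h _ e)) (hΨ.1 r hr))⟩)
    (fun a b ha hb v h => ?_) hg
  rw [Units.val_mul, ← Matrix.mulVec_mulVec]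
  exact ⟨(ha (hb h).1).1, (ha (hb h).1).2.trans (hb h).2⟩

theorem XS_mulVec_hp {S : Set D.Rt} {v : D.Idx → K} (hS : ∀ r ∈ S, rt D (r : D.Rt) v = 0) {g : GL D.Idx K}
    (hg : g ∈ D.XS K S) : g.val *ᵥ hp D v = hp D v :=
  D.XS_monoid_induction K (P := fun g => g.val *ᵥ hp D v = hp D v) (by simp)
    (fun r hr t => by rw [X_mulVec_hp, hS r hr]; simp)
    (fun a b ha hb => by rw [Units.val_mul, ← Matrix.mulVec_mulVec, hb, ha]) hg

theorem mono_inr {n : GL D.Idx K} (hn : n ∈ D.monomialSubgroup K) (s : D.Rt) :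
    ∃ a : Kˣ, ∀ v : D.Idx → K, (n.val *ᵥ v) (Sum.inr (D.wOf K n s)) = a * v (Sum.inr s) := by
  obtain ⟨a, ha⟩ := D.monomial_entry_wOf K hn s
  refine ⟨a, fun v => ?_⟩
  rw [Matrix.mulVec, dotProduct, Finset.sum_eq_single (Sum.inr s), ha, if_pos rfl]
  · rintro (i | u) - hu
    · rw [D.monomial_entry_inl K ⟨n, hn⟩, zero_mul]
    · obtain ⟨b, hb⟩ := D.monomial_entry_wOf K hn u
      rw [hb, if_neg (by simpa using fun e => hu (by rw [e])), zero_mul]
  · simp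

theorem Sup.mono_mulVec {n : GL D.Idx K} (hn : n ∈ D.monomialSubgroup K) {Ψ Ψ' : Set D.Rt} {v : D.Idx → K}
    (h : Sup D Ψ v) (hΨ : ∀ r ∈ Ψ, D.wOf K n r ∈ Ψ') : Sup D Ψ' (n.val *ᵥ v) := fun r hr => by
  obtain ⟨s, rfl⟩ := (D.wOf K n).surjective r
  obtain ⟨a, ha⟩ := mono_inr hn s
  exact hΨ s (h s (right_ne_zero_of_mul (ha v ▸ hr)))

theorem Sup.of_mono {n : GL D.Idx K} (hn : n ∈ D.monomialSubgroup K) {Ψ : Set D.Rt} {v : D.Idx → K}
    (h : Sup D Ψ (n.val *ᵥ v)) : Sup D {r | D.wOf K n r ∈ Ψ} v := fun r hr => by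
  obtain ⟨a, ha⟩ := mono_inr hn r
  exact h _ (by rw [ha]; exact mul_ne_zero a.ne_zero hr)

theorem hp_mono {n : GL D.Idx K} (hn : n ∈ D.monomialSubgroup K) (v : D.Idx → K) :
    hp D (n.val *ᵥ v) = n.val *ᵥ hp D v := by
  rw [← hp_eq_self ((sup_hp v ∅).mono_mulVec hn (Ψ' := ∅) fun _ h => h), hp_eq_iff]
  intro j
  rw [Matrix.mulVec, Matrix.mulVec, dotProduct, dotProduct]
  refine Finset.sum_congr rfl ?_
  rintro (i | u) -
  · rfl
  · obtain ⟨b, hb⟩ := D.monomial_entry_wOf K hn u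
    simp [hb]

theorem rt_mono {n : GL D.Idx K} (hn : n ∈ D.monomialSubgroup K) (r : D.Rt) (v : D.Idx → K) :
    rt D (D.wOf K n r) (n.val *ᵥ v) = 0 ↔ rt D r v = 0 := by
  obtain ⟨a, ha, -⟩ := D.exists_conj_X_wOf K hn r
  obtain ⟨b, hb⟩ := mono_inr hn r
  have h1 := congrArg (fun g : GL D.Idx K => (g.val *ᵥ hp D v) (Sum.inr (D.wOf K n r)))
    (mul_inv_eq_iff_eq_mul.1 (ha 1))
  simp only [Units.val_mul, ← Matrix.mulVec_mulVec] at h1
  rw [hb, ← hp_mono hn, X_mulVec_hp, X_mulVec_hp] at h1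
  simp only [Pi.sub_apply, hp_inr, Pi.smul_apply, eN_inr, if_true, smul_eq_mul, mul_one, zero_sub, mul_neg,
    neg_inj] at h1
  rw [← mul_eq_zero_iff_right a.ne_zero, ← h1, mul_eq_zero_iff_left b.ne_zero]

theorem diag_mulVec {h : GL D.Idx K} (hh : h ∈ D.diagonalSubgroup K) :
    ∃ c : D.Idx → Kˣ, (∀ i, c (Sum.inl i) = 1) ∧ ∀ (v : D.Idx → K) a, (h.val *ᵥ v) a = c a * v a := by
  obtain ⟨χ, -, rfl⟩ := D.exists_char_of_mem_diagonal K hh
  refine ⟨Sum.elim (fun _ => 1) fun r => χ r, fun _ => rfl, fun v a => ?_⟩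
  rw [coe_charG, charDiag]
  rcases a with i | r <;> simp [Matrix.mulVec_diagonal]

theorem borel_sup {b : GL D.Idx K} (hb : b ∈ D.borelSubgroup K) {v : D.Idx → K} (h : Sup D (Pos D) v) :
    Sup D (Pos D) (b.val *ᵥ v) := by
  obtain ⟨u, hu, t, ht, rfl⟩ := (D.mem_borel_iff K b).1 hb
  obtain ⟨c, -, hc⟩ := diag_mulVec ht
  rw [Units.val_mul, ← Matrix.mulVec_mulVec]
  exact (cls_pos.XS (D.posUnipotent_eq_XS K ▸ hu) fun r hr => h r (right_ne_zero_of_mul (hc v _ ▸ hr))).1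

end Cfsg.Agent.FV
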