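import Mathlib
import Cfsg.Agent.FV.Defs
import Cfsg.Agent.E83.Kac
import Cfsg.Agent.Chev.FldFix

/-!
# The Frobenius map on the Chevalley groups over the algebraic closure of `F₃`
-/

set_option autoImplicit false

namespace Cfsg.Agent.FV

open Cfsg.Lie Cfsg.Lie.ChevalleyDatum Cfsg.Agent.Chev Cfsg.Agent.Chev.Kac Matrix

/-- The finite group `E₈(3)`. -/
abbrev G0 : Type := chevE8.group (ZMod 3)

variable (D : ChevalleyDatum)

/-- The Frobenius map. -/
noncomputable def fr : GL D.Idx K3 →* GL D.Idx K3 := GeneralLinearGroup.map (frobenius K3 3)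

/-- The embedding of the finite group. -/
noncomputable def emb : D.group (ZMod 3) →* GL D.Idx K3 :=
  (GeneralLinearGroup.map (algebraMap (ZMod 3) K3)).comp (D.group (ZMod 3)).subtype

variable {D}

theorem coe_fr (g : GL D.Idx K3) : (fr D g).val = g.val.map (frobenius K3 3) := rfl

theorem coe_emb (a : D.group (ZMod 3)) : (emb D a).val = a.val.val.map (algebraMap (ZMod 3) K3) := rfl

theorem fr_mem {g : GL D.Idx K3} (hg : g ∈ D.group K3) : fr D g ∈ D.group K3 := glMap_mem_group D _ hg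

theorem emb_mem (a : D.group (ZMod 3)) : emb D a ∈ D.group K3 := glMap_mem_group D _ a.2

theorem emb_injective : Function.Injective (emb D) := fun _ _ h =>
  fieldHom_injective D (algebraMap (ZMod 3) K3) (Subtype.ext h)

theorem frob_eq_iff (t : K3) : frobenius K3 3 t = t ↔ t ∈ Set.range (algebraMap (ZMod 3) K3) := by
  simpa [frobenius_def] using mem_range_iff_pow_card (ZMod 3) (algebraMap _ K3) t

theorem fr_mulVec (g : GL D.Idx K3) (v : D.Idx → K3) :
    (fr D g).val *ᵥ (frobenius K3 3 ∘ v) = frobenius K3 3 ∘ (g.val *ᵥ v) :=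
  funext fun a => (RingHom.map_mulVec _ _ _ a).symm

theorem emb_mulVec (a : D.group (ZMod 3)) (v : D.Idx → ZMod 3) :
    (emb D a).val *ᵥ (algebraMap _ K3 ∘ v) = algebraMap _ K3 ∘ (a.val.val *ᵥ v) :=
  funext fun i => (RingHom.map_mulVec _ _ _ i).symm

theorem fr_eq_iff {g : GL chevE8.Idx K3} (hg : g ∈ chevE8.group K3) :
    fr chevE8 g = g ↔ g ∈ (emb chevE8).range := by
  have h := fieldHom_eq_self_iff (ker_torus_E8 K3) (frobeniusEquiv K3 3) (algebraMap (ZMod 3) K3) frob_eq_iff ⟨g, hg⟩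
  exact ⟨fun e => (h.1 (Subtype.ext e)).imp fun a ha => congrArg Subtype.val ha,
    fun ⟨a, ha⟩ => congrArg Subtype.val (h.2 ⟨a, Subtype.ext ha⟩)⟩

end Cfsg.Agent.FV
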