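import Mathlib
import Cfsg.Agent.FV.Defs3
import Cfsg.Agent.Chev.SsAdj

/-!
# Rational points of Frobenius-stable maximal tori of `E₈` over `F₃`
-/

set_option autoImplicit false

namespace Cfsg.Agent.FV

open Cfsg.Lie Cfsg.Lie.ChevalleyDatum Cfsg.Agent.Chev Cfsg.Agent.Chev.Kac Matrix

namespace Tor

theorem pow_le_norm_prod (s : Multiset ℂ) {c : ℝ} (hc : 0 ≤ c) (h : ∀ z ∈ s, c ≤ ‖z‖) :
    c ^ s.card ≤ ‖s.prod‖ := by
  induction s using Multiset.induction_on with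
  | empty => simp
  | cons a s ih =>
    rw [Multiset.card_cons, Multiset.prod_cons, norm_mul, pow_succ']
    exact mul_le_mul (h a (Multiset.mem_cons_self _ _))
      (ih fun z hz => h z (Multiset.mem_cons_of_mem hz)) (pow_nonneg hc _) (norm_nonneg _)

theorem le_norm_det {n : Type*} [Fintype n] [DecidableEq n] (W : Matrix n n ℂ) {k : ℕ} (hk : k ≠ 0)
    (h : W ^ k = 1) (q : ℕ) :
    ((q - 1 : ℕ) : ℝ) ^ Fintype.card n ≤ ‖(W - (q : ℂ) • (1 : Matrix n n ℂ)).det‖ := by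
  set M := W - (q : ℂ) • (1 : Matrix n n ℂ) with hM
  rw [Matrix.det_eq_prod_roots_charpoly, ← M.charpoly_natDegree_eq_dim,
    ← IsAlgClosed.card_roots_eq_natDegree]
  refine pow_le_norm_prod _ (Nat.cast_nonneg _) fun μ hμ => ?_
  have h1 := (Polynomial.mem_roots M.charpoly_monic.ne_zero).1 hμ
  rw [Polynomial.IsRoot, Matrix.eval_charpoly] at h1
  obtain ⟨v, hv0, hv⟩ := Matrix.exists_mulVec_eq_zero_iff.2 h1
  have h2 : W *ᵥ v = (μ + q) • v := by
    rw [hM, Matrix.sub_mulVec, Matrix.sub_mulVec, Matrix.smul_mulVec, Matrix.one_mulVec,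
      Matrix.scalar_apply, sub_eq_zero, eq_sub_iff_add_eq] at hv
    rw [← hv, add_smul]
    congr 1
    funext i
    simp [Matrix.mulVec_diagonal]
  have h3 : ∀ j : ℕ, (W ^ j) *ᵥ v = (μ + q) ^ j • v := fun j => by
    induction j with
    | zero => simp
    | succ j ih => rw [pow_succ, ← Matrix.mulVec_mulVec, h2, Matrix.mulVec_smul, ih, smul_smul, pow_succ']
  have h4 : (μ + q) ^ k = 1 := by
    have := h3 k
    rw [h, Matrix.one_mulVec] at this
    exact smul_left_injective ℂ hv0 (this.symm.trans (one_smul ℂ v).symm)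
  have h5 : ‖μ + q‖ = 1 := Complex.norm_eq_one_of_pow_eq_one h4 hk
  have h6 := norm_sub_le (μ + q) μ
  rw [add_sub_cancel_left, Complex.norm_natCast, h5] at h6
  rcases q with _ | q
  · simp
  · rw [Nat.add_sub_cancel]
    push_cast at h6
    linarith

theorem exists_conj {D : ChevalleyDatum} [D.Good] {K : Type*} [Field K] {n : D.SteinbergGroup K}
    (hn : n ∈ D.stRoot.NN (fun r : D.Rt => D.stGen K r)) : ∃ w ∈ D.stRoot.weyl,
      ∀ χ, n⁻¹ * D.torC K χ * n = D.torC K (chrComp χ (D.wl w)) := by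
  have hs := D.isStrong_stGen K
  obtain ⟨L, hL⟩ := D.stRoot.mem_weyl_iff.1
    (StRoot.wN_mem_weyl (R := D.stRoot) (x := fun r : D.Rt => D.stGen K r) n)
  have h1 := (RootBN.mul_inv_mem_H_iff (R := hs.rootBN) hn (StRoot.nw_mem_NN L)).2
    (hL.symm.trans (hs.toIsModel.wN_nw L).symm)
  obtain ⟨ψ, hψ⟩ := D.exists_torC h1
  refine ⟨_, D.stRoot.wd_mem_weyl L, fun χ => ?_⟩
  rw [← lw_eq_wl, ← nw_inv_conj_torC, eq_mul_of_mul_inv_eq hψ.symm, _root_.mul_inv_rev,
    mul_assoc _ (D.torC K ψ)⁻¹, ← map_inv, torC_comm, map_inv]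
  group

end Tor

theorem le_det {D : ChevalleyDatum} [D.Good] {w : Equiv.Perm D.Rt} (hw : w ∈ D.stRoot.weyl) (q : ℕ) :
    (q - 1) ^ D.rank ≤ (D.wm w - (q : ℤ) • 1).det.natAbs := by
  have h := Tor.le_norm_det ((Int.castRingHom ℂ).mapMatrix (D.wm w)) (orderOf_pos w).ne'
    (by rw [← map_pow, ← D.wm_pow hw, pow_orderOf_eq_one, wm_one, map_one]) q
  have e : (Int.castRingHom ℂ).mapMatrix (D.wm w) - (q : ℂ) • (1 : Matrix D.Nd D.Nd ℂ) =
      (Int.castRingHom ℂ).mapMatrix (D.wm w - (q : ℤ) • 1) := by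
    rw [map_sub, map_zsmul, map_one]
    congr 1
    rw [natCast_zsmul, Nat.cast_smul_eq_nsmul]
  rw [e, ← RingHom.map_det, Fintype.card_fin, eq_intCast, Complex.norm_intCast, ← Int.cast_abs,
    ← Int.natCast_natAbs, Int.cast_natCast] at h
  exact_mod_cast h

theorem Tor.gen {D : ChevalleyDatum} [D.Good] (hinj : Function.Injective (D.stTor K3))
    (hZ : Function.Injective (D.stProj K3))
    (hfix : ∀ g ∈ D.group K3, fr D g = g → g ∈ (emb D).range) {g : GL D.Idx K3} (hg : g ∈ D.group K3)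
    (e : fr D g * g⁻¹ ∈ D.monomialSubgroup K3) : ∃ A : Subgroup (D.group (ZMod 3)),
      IsMulCommutative A ∧ ¬ 3 ∣ Nat.card A ∧ 2 ^ D.rank ≤ Nat.card A ∧
        ∀ a ∈ A, g * emb D a * g⁻¹ ∈ D.diagonalSubgroup K3 := by
  have hm : fr D g * g⁻¹ ∈ D.group K3 := mul_mem (fr_mem hg) (inv_mem hg)
  obtain ⟨n, hn⟩ := D.stProj_surjective K3 (⟨_, hm⟩ : D.group K3)⁻¹
  have hN : n ∈ D.stRoot.NN (fun r : D.Rt => D.stGen K3 r) :=
    D.mem_NN_of_stProj (hn ▸ inv_mem ((D.mem_NN_XG K3).2 e))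
  obtain ⟨w, hw, hc⟩ := Tor.exists_conj hN
  obtain ⟨hfin, hcard⟩ := D.natCard_twT (ZMod 3) hw
  have hle := le_det hw (Fintype.card (ZMod 3))
  rw [← hcard] at hle
  generalize hT : twT K3 (D.wl w) (Fintype.card (ZMod 3)) = T at hfin hle
  let π : D.SteinbergGroup K3 →* GL D.Idx K3 :=
    (D.group K3).subtype.comp (D.stProj K3)
  have hπ : Function.Injective π := Subtype.val_injective.comp hZ
  have hπn : π n = (fr D g * g⁻¹)⁻¹ := congrArg Subtype.val hn
  let f : T →* GL D.Idx K3 :=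
    (MulAut.conj g⁻¹).toMonoidHom.comp ((π.comp (D.torC K3)).comp T.subtype)
  have hf : ∀ χ : T, f χ = g⁻¹ * π (D.torC K3 χ) * g := fun χ => by
    simp [f]
  have hfi : Function.Injective f := fun χ ψ h => by
    rw [hf, hf, mul_left_inj, mul_right_inj] at h
    exact Subtype.ext (D.torC_injective hinj (hπ h))
  have hfr : ∀ χ : T, f χ ∈ (emb D).range := fun χ => by
    have hχ : χ.1 ∈ twT K3 (D.wl w) (Fintype.card (ZMod 3)) := hT ▸ χ.2
    rw [D.mem_twT_iff_stMap hinj (φ := frobenius K3 3) (fun t => by simp [frobenius_def]),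
      ← hc] at hχ
    have h1 : fr D (π (D.torC K3 χ)) =
        π (D.stMap (frobenius K3 3) (D.torC K3 χ)) :=
      (congrArg Subtype.val (D.stProj_stMap (frobenius K3 3) (D.torC K3 χ))).symm
    refine hfix _ (hf χ ▸ mul_mem (mul_mem (inv_mem hg) (D.stProj K3 _).2) hg) ?_
    rw [hf, map_mul, map_mul, map_inv, h1, hχ, map_mul, map_mul, map_inv, hπn]
    group
  have hd : ∀ a ∈ f.range.comap (emb D),
      g * emb D a * g⁻¹ ∈ D.diagonalSubgroup K3 := by
    rintro a ⟨χ, hχ⟩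
    have : g * emb D a * g⁻¹ = π (D.torC K3 χ) := by rw [← hχ, hf]; group
    exact this ▸ (D.mem_HH_XG K3).1 (D.stProj_torC_mem _)
  have hA : Nat.card (f.range.comap (emb D)) = Nat.card T := by
    rw [← Subgroup.card_map_of_injective (emb_injective (D := D)),
      Subgroup.map_comap_eq_self (by rintro _ ⟨χ, rfl⟩; exact hfr χ), f.range_eq_map,
      Subgroup.card_map_of_injective hfi, Subgroup.card_top]
  have hA0 : Finite (f.range.comap (emb D)) :=
    Nat.finite_of_card_ne_zero (hA ▸ Nat.card_pos.ne')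
  refine ⟨f.range.comap (emb D), ⟨⟨?_⟩⟩, fun h3 => ?_, ?_, hd⟩
  · rintro ⟨a, χ, hχ⟩ ⟨b, ψ, hψ⟩
    refine Subtype.ext (emb_injective ?_)
    change emb D (a * b) = emb D (b * a)
    rw [map_mul, map_mul, ← hχ, ← hψ, ← map_mul, ← map_mul, mul_comm χ]
  · obtain ⟨a, ha⟩ := exists_prime_orderOf_dvd_card' 3 h3
    have h1 := D.eq_one_of_mem_H_pow K3 3 _ (hd a.1 a.2) (by
      rw [conj_pow, ← map_pow, ← Subgroup.coe_pow, orderOf_dvd_iff_pow_eq_one.1 ha.dvd]
      simp)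
    rw [conj_eq_one_iff, map_eq_one_iff _ emb_injective, OneMemClass.coe_eq_one] at h1
    simp [h1] at ha
  · rw [hA]
    simpa using hle

/-- A Frobenius-stable maximal torus has at least `256` rational points. -/
theorem torus {g : GL chevE8.Idx K3} (hg : g ∈ chevE8.group K3)
    (e : fr chevE8 g * g⁻¹ ∈ chevE8.monomialSubgroup K3) : ∃ A : Subgroup G0, IsMulCommutative A ∧
      ¬ 3 ∣ Nat.card A ∧ 256 ≤ Nat.card A ∧
        ∀ a ∈ A, g * emb chevE8 a * g⁻¹ ∈ chevE8.diagonalSubgroup K3 :=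
  Tor.gen (stTor_injective_E8 K3) (by rw [← MonoidHom.ker_eq_bot_iff, ker_stProj, center_stE8])
    (fun _ h => (fr_eq_iff h).1) hg e

end Cfsg.Agent.FV
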