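import Mathlib
import Cfsg.Agent.FV.Defs3

/-!
# A nonzero `E₈(3)`-invariant subspace of the adjoint module contains a root `sl₂`
-/

set_option autoImplicit false

namespace Cfsg.Agent.FV

open Cfsg.Lie Cfsg.Lie.ChevalleyDatum Cfsg.Agent.Chev Cfsg.Agent.Chev.Kac Matrix

namespace Irr

theorem len_dom : ∀ r < chevE8.nroots, chevE8.IsDom r → ∀ s < chevE8.nroots, chevE8.chainLen r s ≤ 1 := by
  unfold IsDom; decide +kernel

theorem len_le (r s : chevE8.Rt) : chevE8.chainLen r s ≤ 1 := by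
  revert s
  refine chevE8.dom_induction (P := fun r => ∀ s : chevE8.Rt, chevE8.chainLen r s ≤ 1)
    (fun r h s => len_dom r r.2 h s s.2) (fun i r h s => ?_) r
  rw [← chevE8.chainLen_sref i]
  exact h _

variable {D : ChevalleyDatum} [D.Good] {K : Type*} [Field K]

theorem col {r : D.Rt} (hl : ∀ s : D.Rt, D.chainLen r s ≤ 1) (s : D.Rt) :
    D.xR K r 1 *ᵥ D.eN K s + D.xR K r (-1) *ᵥ D.eN K s =
      (2 : K) • D.eN K s - if s = D.ng r then (2 : K) • D.eN K r else 0 := by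
  by_cases h2 : s = D.ng r
  · rw [if_pos h2, h2, xR_mulVec_eN_ng, xR_mulVec_eN_ng]
    module
  rw [if_neg h2, sub_zero, two_smul]
  by_cases h1 : s = r
  · rw [h1, xR_mulVec_eN_self, xR_mulVec_eN_self]
  rw [D.xR_mulVec_eN_of_ne K h1 h2, D.xR_mulVec_eN_of_ne K h1 h2]
  have := hl s
  unfold chainLen at this
  rcases h : D.chainEntry r s with _ | ⟨q, _ | ⟨q', l⟩⟩
  · simp
  · simp only [List.zipIdx_cons, List.zipIdx_nil, List.map_cons, List.map_nil, List.sum_cons, List.sum_nil]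
    module
  · simp [h] at this

theorem sum_eq {r : D.Rt} (hl : ∀ s : D.Rt, D.chainLen r s ≤ 1) (v : D.Idx → K) :
    D.xR K r 1 *ᵥ v + D.xR K r (-1) *ᵥ v = (2 : K) • v - (2 * v (Sum.inr (D.ng r))) • D.eN K r := by
  have e : ∑ s : D.Rt, v (Sum.inr s) • (D.xR K r 1 *ᵥ D.eN K s + D.xR K r (-1) *ᵥ D.eN K s) =
      (2 : K) • ∑ s : D.Rt, v (Sum.inr s) • D.eN K s - (2 * v (Sum.inr (D.ng r))) • D.eN K r := by
    simp only [col hl, smul_sub, Finset.sum_sub_distrib, smul_ite, smul_zero, Finset.sum_ite_eq',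
      Finset.mem_univ, if_true, Finset.smul_sum, smul_smul, mul_comm]
  simp only [smul_add, Finset.sum_add_distrib, ← Matrix.mulVec_smul, ← Matrix.mulVec_sum] at e
  conv_lhs => rw [eq_hp_add v, Matrix.mulVec_add, Matrix.mulVec_add, xR_mulVec_hp, xR_mulVec_hp]
  conv_rhs => enter [1, 2]; rw [eq_hp_add v]
  linear_combination (norm := module) e

end Irr

open Irr in
theorem irr {W : Submodule K3 (chevE8.Idx → K3)} (hW : ∀ a : G0, ∀ v ∈ W, (emb chevE8 a).val *ᵥ v ∈ W)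
    (h0 : W ≠ ⊥) : ∃ r : chevE8.Rt, chevE8.eN K3 r ∈ W ∧ chevE8.eN K3 (chevE8.ng r) ∈ W ∧
      chevE8.hV K3 (chevE8.cw r) ∈ W := by
  have hX : ∀ (r : chevE8.Rt) (t : ZMod 3), ∀ v ∈ W, chevE8.xR K3 r (algebraMap _ K3 t) *ᵥ v ∈ W := by
    intro r t v hv
    have := hW ⟨_, chevE8.X_mem_group (ZMod 3) r t⟩ v hv
    rwa [coe_emb, coe_X_eq_xR, xR_map] at this
  have h1 : ∀ r : chevE8.Rt, ∀ v ∈ W, chevE8.xR K3 r 1 *ᵥ v ∈ W := fun r v hv => by simpa using hX r 1 v hv
  have h2 : (2 : K3) ≠ 0 := fun e => by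
    have h3 : ((3 : ℕ) : K3) = 0 := CharP.cast_eq_zero K3 3
    exact one_ne_zero (α := K3) (by push_cast at h3; linear_combination h3 - e)
  have key : ∀ r : chevE8.Rt, ∀ v ∈ W, v (Sum.inr (chevE8.ng r)) ≠ 0 → chevE8.eN K3 r ∈ W := by
    intro r v hv h
    have h3 : chevE8.xR K3 r (-1) *ᵥ v ∈ W := by simpa using hX r (-1) v hv
    have h4 := W.sub_mem (W.smul_mem 2 hv) (W.add_mem (h1 r v hv) h3)
    rwa [sum_eq (len_le r), sub_sub_cancel, W.smul_mem_iff (mul_ne_zero h2 h)] at h4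
  obtain ⟨r, hr⟩ : ∃ r : chevE8.Rt, chevE8.eN K3 r ∈ W := by
    obtain ⟨v, hv, hn⟩ := W.ne_bot_iff.1 h0
    by_cases h : Sup chevE8 ∅ v
    swap
    · obtain ⟨s, hs⟩ : ∃ s, v (Sum.inr s) ≠ 0 := by simpa [Sup] using h
      exact ⟨chevE8.ng s, key _ v hv (by rwa [ng_ng])⟩
    obtain ⟨j, hj⟩ : ∃ j, rt chevE8 (chevE8.sr j) v ≠ 0 := by
      by_contra! hc
      refine hn (funext ?_)
      rintro (k | s)
      · have : ∑ j : chevE8.Nd, (cartanInvE8 j k : K3) * rt chevE8 (chevE8.sr j) v = v (Sum.inl k) := by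
          simp only [rt, Finset.mul_sum]
          rw [Finset.sum_comm, Finset.sum_congr rfl (g := fun i => if i = k then v (Sum.inl i) else 0)]
          · simp
          intro i _
          have := congrArg (fun n : ℤ => (n : K3) * v (Sum.inl i)) (cartanInvE8_spec i k)
          simp only [Int.cast_sum, Int.cast_mul, Finset.sum_mul, Int.cast_ite, Int.cast_one, Int.cast_zero, ite_mul,
            one_mul, zero_mul] at this
          rw [← this]
          exact Finset.sum_congr rfl fun j _ => by simp only [wt, sr_val]; ring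
        simpa [hc] using this.symm
      · exact not_not.1 (h s)
    have h4 := W.sub_mem hv (h1 (chevE8.sr j) v hv)
    rw [← hp_eq_self h, xR_mulVec_hp, sub_sub_cancel, mul_one, W.smul_mem_iff hj] at h4
    exact ⟨_, h4⟩
  have hn := key (chevE8.ng r) _ hr (by simp [eN_inr])
  refine ⟨r, hr, hn, ?_⟩
  have := W.add_mem (W.sub_mem (h1 r _ hn) hn) hr
  rw [xR_mulVec_eN_ng] at this
  convert this using 1
  module

end Cfsg.Agent.FV
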