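import Mathlib
import Cfsg.Agent.FV.Defs3
import Cfsg.Agent.Chev.C2Cent

/-!
# The invariant form on the adjoint module of `E₈`
-/

set_option autoImplicit false

namespace Cfsg.Agent.FV

open Cfsg.Lie Cfsg.Lie.ChevalleyDatum Cfsg.Agent.Chev Cfsg.Agent.Chev.Kac Cfsg.Agent.E83 Matrix

namespace Form

variable (D : ChevalleyDatum) [hG : D.Good] (K : Type*) [Field K]

/-- The matrix of the form. -/
def Bf : Matrix D.Idx D.Idx K :=
  fromBlocks (of fun i j => (D.cartan i (D.simple j) : K)) 0 0 (of fun r s => if s = D.ng r then 1 else 0)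

omit hG in
/-- The table facts about the root `r`. -/
def Ck (r : ℕ) : Prop := (∀ i : D.Nd, ∑ j : D.Nd, D.cartan i (D.simple j) * D.co r j = D.cartan i r) ∧
  ∀ s < D.nroots, (D.chainEntry r s).length ≤ 1 ∧ ∀ q ∈ D.chainEntry r s, q.1 ≠ r ∧ q.1 ≠ D.neg r ∧
    D.chainEntry r (D.neg q.1) = [(D.neg s, -q.2)]

/-- The coefficient of `e_{-u}` in `[e_r, e_s]`. -/
def cc (r s u : D.Rt) : ℤ := ((D.chainEntry r s).map fun q => if (D.ng u : ℕ) = q.1 then q.2 else 0).sum

variable {D K}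

theorem Bf_inr (w : D.Idx → K) (s : D.Rt) : (Bf D K *ᵥ w) (.inr s) = w (.inr (D.ng s)) := by
  simp [Bf, mulVec, dotProduct]

theorem Bf_inl (w : D.Idx → K) (i : D.Nd) :
    (Bf D K *ᵥ w) (.inl i) = ∑ j : D.Nd, (D.cartan i (D.simple j) : K) * w (.inl j) := by
  simp [Bf, mulVec, dotProduct]

variable {r : D.Rt} (h : Ck D r)
include h

theorem cc_ne {s u : D.Rt} (h0 : cc D r s u ≠ 0) : u ≠ r ∧ u ≠ D.ng r ∧ cc D r u s = -cc D r s u := by
  obtain ⟨h1, h2⟩ := h.2 s s.2
  unfold cc at h0 ⊢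
  match e : D.chainEntry r s with
  | [] => simp [e] at h0
  | [q] =>
    rw [e] at h0 h2
    obtain ⟨h3, h4, h5⟩ := h2 q (by simp)
    have h6 : (D.ng u : ℕ) = q.1 := by
      by_contra h7
      simp [h7] at h0
    rw [← h6, ← ng_val, ng_ng] at h5
    refine ⟨fun h7 => h4 (by rw [← h6, h7, ng_val]), fun h7 => h3 (by rw [← h6, h7, ng_ng]), ?_⟩
    simp [h5, h6, ← ng_val]
  | _ :: _ :: _ => simp [e] at h1

theorem cc_anti (s u : D.Rt) : cc D r u s = -cc D r s u := by
  by_cases h0 : cc D r s u = 0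
  · by_cases h1 : cc D r u s = 0
    · rw [h0, h1, neg_zero]
    · rw [(cc_ne h h1).2.2, neg_neg]
  · exact (cc_ne h h0).2.2

theorem x_inr (t : K) (s u : D.Rt) : (D.xR K r t *ᵥ D.eN K s) (.inr (D.ng u)) =
    (if D.ng u = s then 1 else 0) + cc D r s u * t - if s = D.ng r ∧ u = D.ng r then t ^ 2 else 0 := by
  have z : ∀ {s : D.Rt}, s = r ∨ s = D.ng r → cc D r s u = 0 := fun {s} hs => by
    rw [cc_anti h, neg_eq_zero]
    by_contra h0
    exact hs.elim (cc_ne h h0).1 (cc_ne h h0).2.1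
  by_cases h1 : s = r
  · rw [z (.inl h1), h1, xR_mulVec_eN_self]
    simp [eN_inr, (D.ng_ne r).symm]
  by_cases h2 : s = D.ng r
  · rw [z (.inr h2), h2, xR_mulVec_eN_ng]
    have : D.ng u = r ↔ u = D.ng r := ⟨fun e => by rw [← e, ng_ng], fun e => by rw [e, ng_ng]⟩
    simp [eN_inr, hV, hN, this]
  rw [D.xR_mulVec_eN_of_ne K h1 h2, cc]
  have h3 := (h.2 s s.2).1
  match e : D.chainEntry r s with
  | [] => simp [eN_inr, h2]
  | [q] => simp [eN, h2, Fin.ext_iff]
  | _ :: _ :: _ => simp [e] at h3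

theorem sym (hC : ∀ i j : D.Nd, D.cartan i (D.simple j) = D.cartan j (D.simple i)) (t : K) :
    (Bf D K * D.xR K r t)ᵀ = Bf D K * D.xR K r (-t) := by
  have c : ∀ (t : K) a b, (Bf D K * D.xR K r t) a b = (Bf D K *ᵥ (D.xR K r t *ᵥ Pi.single b 1)) a := fun t a b => by
    rw [mulVec_mulVec, mulVec_single_one]; rfl
  have m : ∀ (t : K) (i : D.Nd) (s : D.Rt), (Bf D K * D.xR K r t) (.inr s) (.inl i) =
      (Bf D K * D.xR K r (-t)) (.inl i) (.inr s) := fun t i s => by
    rw [c, c, Bf_inr, Bf_inl, ← hN_eq_single, ← eN_eq_single, xR_mulVec_hN, ← coe_X_eq_xR]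
    by_cases h2 : s = D.ng r
    · have := congrArg (Int.cast : ℤ → K) (h.1 i)
      simp only [h2, X_mulVec_eN_ng_inl, ng_ng, cw, mul_left_comm _ (-t), ← Finset.mul_sum]
      push_cast at this
      rw [this]
      simp [hN, eN_inr, mul_comm]
    · have : D.ng s ≠ r := fun e => h2 (by rw [← e, ng_ng])
      simp only [D.X_mulVec_eN_inl K h2]
      simp [hN, eN_inr, this]
  ext (i | s) (j | u)
  · rw [transpose_apply, c, c, Bf_inl, Bf_inl, ← hN_eq_single, ← hN_eq_single, xR_mulVec_hN, xR_mulVec_hN]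
    simp [hN, eN_inl, ← Fin.ext_iff, hC i j]
  · exact m t i u
  · simpa using (m (-t) j s).symm
  · rw [transpose_apply, c, c, Bf_inr, Bf_inr, ← eN_eq_single, ← eN_eq_single, x_inr h, x_inr h, cc_anti h s u]
    have : D.ng u = s ↔ D.ng s = u := ⟨fun e => by rw [← e, ng_ng], fun e => by rw [← e, ng_ng]⟩
    simp [this, and_comm]

omit h in
theorem ckE8 : ∀ j : chevE8.Nd, Ck chevE8 (chevE8.simple j) ∧ Ck chevE8 (chevE8.neg (chevE8.simple j)) := by
  unfold Ck
  decide +kernel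

omit h in
theorem symE8 : ∀ i j : chevE8.Nd, chevE8.cartan i (chevE8.simple j) = chevE8.cartan j (chevE8.simple i) := by
  decide +kernel

omit h hG in
/-- The stabiliser of a form. -/
def Stab (B : Matrix D.Idx D.Idx K) : Subgroup (GL D.Idx K) where
  carrier := {g | g.valᵀ * B * g.val = B}
  one_mem' := by simp
  mul_mem' {a b} ha hb := by
    simp only [Set.mem_ofPred_eq, Units.val_mul, Matrix.transpose_mul] at *
    rw [Matrix.mul_assoc, Matrix.mul_assoc, ← Matrix.mul_assoc B, ← Matrix.mul_assoc _ _ b.val,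
      ← Matrix.mul_assoc _ _ a.val, ha, ← Matrix.mul_assoc, hb]
  inv_mem' {a} ha := by
    simp only [Set.mem_ofPred_eq] at *
    conv_lhs => rw [← ha]
    rw [← Matrix.mul_assoc, ← Matrix.mul_assoc, ← Matrix.transpose_mul, Matrix.mul_assoc, Units.mul_inv,
      Matrix.transpose_one, Matrix.one_mul, Matrix.mul_one]

theorem X_mem (hC : ∀ i j : D.Nd, D.cartan i (D.simple j) = D.cartan j (D.simple i)) (t : K) :
    D.X K r t ∈ Stab (Bf D K) := by
  have h0 := sym h hC (0 : K)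
  have h1 := sym h hC t
  rw [neg_zero, xR_zero, Matrix.mul_one] at h0
  rw [transpose_mul, h0] at h1
  change _ * _ * _ = _
  rw [coe_X_eq_xR, h1, Matrix.mul_assoc, xR_add, neg_add_cancel, xR_zero, Matrix.mul_one]

omit h in
theorem group_le (hk : ∀ j : D.Nd, Ck D (D.simple j) ∧ Ck D (D.neg (D.simple j)))
    (hC : ∀ i j : D.Nd, D.cartan i (D.simple j) = D.cartan j (D.simple i)) :
    ∀ g ∈ D.group K, g.valᵀ * Bf D K * g.val = Bf D K := by
  change D.group K ≤ Stab (Bf D K)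
  rw [← LJ_univ]
  exact LJ_le fun j _ t => ⟨X_mem (r := D.sr j) (hk j).1 hC t, X_mem (r := D.ng (D.sr j)) (hk j).2 hC t⟩

omit h in
theorem rho_apply (x : St) (v : LL) : rho x v = ((chevE8.stProj (ZMod 3) x).val.val.map (algebraMap _ K3) *ᵥ
    (v ∘ finSumFinEquiv)) ∘ finSumFinEquiv.symm := by
  rw [← coe_fieldHom, ← stProj_stMap, ← Equiv.symm_symm finSumFinEquiv, ← submatrix_mulVec_equiv]
  rfl

end Form

open Form

/-- The invariant form on the adjoint module. -/
theorem form (K : Type*) [Field K] : ∃ B : Matrix chevE8.Idx chevE8.Idx K, IsUnit B ∧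
    ∀ g ∈ chevE8.group K, g.valᵀ * B * g.val = B := by
  refine ⟨Bf chevE8 K, IsUnit.of_mul_eq_one (fromBlocks (of fun i j => (cartanInvE8 i j : K)) 0 0
    (of fun r s => if r = chevE8.ng s then 1 else 0)) ?_, ?_⟩
  · rw [Bf, fromBlocks_multiply, ← fromBlocks_one]
    simp only [Matrix.mul_zero, Matrix.zero_mul, add_zero, zero_add]
    congr 1
    · ext i k
      have := congrArg (Int.cast : ℤ → K) (cartanInvE8_spec i k)
      push_cast at this
      simpa [Matrix.mul_apply, Matrix.one_apply] using this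
    · ext r s
      simp [Matrix.mul_apply, Matrix.one_apply, eq_comm]
  · exact group_le ckE8 symE8

theorem fix_of_cofix {S : Set St} {φ : Module.Dual K3 LL} (h0 : φ ≠ 0) (h : ∀ x ∈ S, φ ∘ₗ rho x = φ) :
    ∃ v : LL, v ≠ 0 ∧ ∀ x ∈ S, rho x v = v := by
  obtain ⟨B, hB, hg⟩ := form K3
  obtain ⟨c, hc⟩ : ∃ c : chevE8.Idx → K3, ∀ w : chevE8.Idx → K3, φ (w ∘ finSumFinEquiv.symm) = c ⬝ᵥ w := by
    refine ⟨fun a => φ (Pi.single (finSumFinEquiv a) 1), fun w => ?_⟩
    rw [LinearMap.pi_apply_eq_sum_univ, ← finSumFinEquiv.sum_comp]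
    refine Finset.sum_congr rfl fun a _ => ?_
    rw [smul_eq_mul, mul_comm]
    congr 2
    · funext j; simp [Pi.single_apply, eq_comm]
    · simp
  obtain ⟨u, hu⟩ := mulVec_surjective_iff_isUnit.2 hB c
  refine ⟨u ∘ finSumFinEquiv.symm, fun e => h0 (LinearMap.ext fun w => ?_), fun x hx => ?_⟩
  · have e' : u = 0 := funext fun a => by simpa using congrFun e (finSumFinEquiv a)
    have := hc (w ∘ finSumFinEquiv)
    rw [← hu, e'] at this
    simpa [Function.comp_def] using this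
  · have h1 := hg _ (fieldHom chevE8 (algebraMap _ K3) (chevE8.stProj (ZMod 3) x)).2
    rw [rho_apply]
    rw [coe_fieldHom] at h1
    have h2 : ∀ w, c ⬝ᵥ (chevE8.stProj (ZMod 3) x).val.val.map (algebraMap _ K3) *ᵥ w = c ⬝ᵥ w := fun w => by
      have := LinearMap.congr_fun (h x hx) (w ∘ finSumFinEquiv.symm)
      rw [LinearMap.comp_apply, rho_apply, hc, hc] at this
      simpa [Function.comp_def] using this
    generalize (chevE8.stProj (ZMod 3) x).val.val.map (algebraMap _ K3) = A at h1 h2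
    have h3 : Aᵀ *ᵥ c = c := by
      funext a
      have := h2 (Pi.single a 1)
      rwa [dotProduct_mulVec, ← mulVec_transpose, dotProduct_single_one, dotProduct_single_one] at this
    have h4 : IsUnit (Aᵀ * B) := isUnit_of_mul_isUnit_left (h1.symm ▸ hB)
    have h5 : A *ᵥ u = u := mulVec_injective_iff_isUnit.2 h4 (by
      change (Aᵀ * B) *ᵥ (A *ᵥ u) = (Aᵀ * B) *ᵥ u
      rw [mulVec_mulVec, h1, ← mulVec_mulVec, hu, h3])
    simp [Function.comp_assoc, h5]

theorem descend {S : Set St} (c : St → ZMod 3) {v : LL} (hv : v ≠ 0)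
    (h : ∀ x ∈ S, rho x v = algebraMap _ K3 (c x) • v) : ∃ w : chevE8.Idx → ZMod 3, w ≠ 0 ∧
      ∀ x ∈ S, (chevE8.stProj (ZMod 3) x).val.val *ᵥ w = c x • w := by
  obtain ⟨a, ha⟩ := Function.ne_iff.1 hv
  obtain ⟨l, hl⟩ := not_forall.1 (mt (Module.forall_dual_apply_eq_zero_iff (ZMod 3) (v a)).1 ha)
  refine ⟨l ∘ v ∘ finSumFinEquiv, fun e => hl (by simpa using congrFun e (finSumFinEquiv.symm a)), fun x hx => ?_⟩
  funext i
  have := congrArg l (congrFun ((rho_apply x v).symm.trans (h x hx)) (finSumFinEquiv i))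
  simpa [mulVec, dotProduct, ← Algebra.smul_def] using this

end Cfsg.Agent.FV
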