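import Mathlib
import Cfsg.Agent.FV.Defs3
import Cfsg.Agent.Chev.ThFpf
import Cfsg.Agent.Chev.TwGraph

/-!
# Lang's theorem on `X_S T` for the Frobenius map twisted by a monomial element
-/

set_option autoImplicit false

namespace Cfsg.Agent.FV

open Cfsg.Lie Cfsg.Lie.ChevalleyDatum Cfsg.Agent.Chev Cfsg.Agent.Chev.Kac Matrix

theorem lang_twist {G : Type*} [Group G] {C : Subgroup G} {φ : Monoid.End G} {n : G} (hφ : φ n = n)
    (h1 : ∀ y ∈ C, n⁻¹ * φ y * n ∈ C) (h2 : ∀ y, ∃ m, m ≠ 0 ∧ ∀ k, (φ ^ (m * k)) y = y)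
    (h3 : ∀ M, M ≠ 0 → Finite {y // (φ ^ M) y = y})
    (h4 : ∀ M, M ≠ 0 → ∀ y ∈ C, ∃ z ∈ C, y = z⁻¹ * (φ ^ M) z) {y : G} (hy : y ∈ C) :
    ∃ z ∈ C, y = z⁻¹ * (n⁻¹ * φ z * n) := by
  have hn : IsOfFinOrder n := by
    by_contra h
    have := h3 1 one_ne_zero
    refine not_injective_infinite_finite (fun k : ℕ =>
      (⟨n ^ k, by rw [pow_one, map_pow, hφ]⟩ : {y // (φ ^ 1) y = y})) fun a b e => ?_
    exact injective_pow_iff_not_isOfFinOrder.2 h (congrArg Subtype.val e)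
  let τ : Monoid.End C := (((MulAut.conj n⁻¹).toMonoidHom.comp φ).comp C.subtype).codRestrict C
    fun y => by
      change n⁻¹ * φ y * n⁻¹⁻¹ ∈ C
      simpa using h1 y y.2
  have hτ1 : ∀ y : C, (τ y : G) = n⁻¹ * φ y * n := fun y => by
    change n⁻¹ * φ y * n⁻¹⁻¹ = _
    rw [inv_inv]
  have hτ : ∀ (k : ℕ) (y : C), ((τ ^ k) y : G) = (n ^ k)⁻¹ * (φ ^ k) y * n ^ k := fun k y => by
    induction k with
    | zero => simp
    | succ k ih =>
      rw [pow_succ' τ, pow_succ' φ, Monoid.End.coe_mul, Monoid.End.coe_mul, Function.comp_apply,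
        Function.comp_apply, hτ1, ih, map_mul, map_mul, map_inv, map_pow, hφ, pow_succ]
      group
  have hL : IsLang τ := IsLang.of_pow fun g => by
    obtain ⟨m, hm, hg⟩ := h2 g
    have e : ∀ y : C, ((τ ^ (m * orderOf n)) y : G) = (φ ^ (m * orderOf n)) y := fun y => by
      rw [hτ, mul_comm, pow_mul, pow_orderOf_eq_one]; simp
    have h0 := mul_ne_zero hm hn.orderOf_pos.ne'
    refine ⟨m * orderOf n, Subtype.ext ((e g).trans (hg _)), ?_, fun y => ?_⟩
    · have := h3 _ h0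
      exact Finite.of_injective (fun y => (⟨y.1, (e y.1).symm.trans (congrArg Subtype.val y.2)⟩ :
          {y // (φ ^ (m * orderOf n)) y = y}))
        fun a b h => Subtype.ext (Subtype.ext (Subtype.mk.inj h))
    · obtain ⟨z, hz, h⟩ := h4 _ h0 y y.2
      exact ⟨⟨z, hz⟩, Subtype.ext (h.trans (congrArg (z⁻¹ * ·) (e ⟨z, hz⟩).symm))⟩
  obtain ⟨z, hz⟩ := hL ⟨y, hy⟩
  exact ⟨z, z.2, (congrArg Subtype.val hz).trans (congrArg ((z : G)⁻¹ * ·) (hτ1 z))⟩

variable {D : ChevalleyDatum} [hG : D.Good]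

section
variable {K : Type} [Field K] {S : Set D.Rt}

theorem XS_conj {n : GL D.Idx K} (hn : n ∈ D.monomialSubgroup K) (hS : ∀ r ∈ S, D.wOf K n r ∈ S)
    {y : GL D.Idx K} (hy : y ∈ D.XS K S) : n * y * n⁻¹ ∈ D.XS K S := by
  rw [← rootBN_XS] at hy ⊢
  exact RootBN.conj_XS (R := D.rootBN K) hn hS hy

theorem TX_conj {n : GL D.Idx K} (hn : n ∈ D.monomialSubgroup K) (hS : ∀ r ∈ S, D.wOf K n r ∈ S)
    {y : GL D.Idx K} (hy : y ∈ TX D K S) : n * y * n⁻¹ ∈ TX D K S :=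
  sup_le (c := (TX D K S).comap (MulAut.conj n).toMonoidHom)
    (fun _ h => Subgroup.mem_sup_left (XS_conj hn hS h))
    (fun _ h => Subgroup.mem_sup_right (D.conj_mem_diagonal K hn h)) hy

theorem XS_conj_H {h : GL D.Idx K} (hh : h ∈ D.diagonalSubgroup K)
    {y : GL D.Idx K} (hy : y ∈ D.XS K S) : h * y * h⁻¹ ∈ D.XS K S :=
  XS_conj ((D.rootBN K).H_le_N hh) (fun r hr => by rwa [D.wOf_H K hh]) hy

theorem TX_map (f : K →+* K) {y : GL D.Idx K} (hy : y ∈ TX D K S) :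
    GeneralLinearGroup.map f y ∈ TX D K S :=
  sup_le (c := (TX D K S).comap (GeneralLinearGroup.map f))
    (fun _ h => Subgroup.mem_sup_left (Th.glMap_mem_XS f h))
    (fun _ h => Subgroup.mem_sup_right (by
      rw [← range_torusHom] at h ⊢
      obtain ⟨c, rfl⟩ := h
      exact ⟨_, (Th.glMap_torus f c).symm⟩)) hy

theorem TX_factor {y : GL D.Idx K} (hy : y ∈ TX D K S) :
    ∃ x ∈ D.XS K S, ∃ t ∈ D.diagonalSubgroup K, x * t = y := by
  have h : D.diagonalSubgroup K ≤ Subgroup.normalizer (D.XS K S : Set (GL D.Idx K)) := fun h hh =>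
    Subgroup.mem_normalizer_iff.2 fun y => ⟨XS_conj_H hh, fun e => by
      simpa [mul_assoc] using XS_conj_H (inv_mem hh) e⟩
  have := Subgroup.coe_mul_of_right_le_normalizer_left _ _ h
  rw [TX, ← SetLike.mem_coe, this] at hy
  exact Set.mem_mul.1 hy

theorem map_nWordS (f : K →+* K) (l : List D.Nd) :
    GeneralLinearGroup.map f (D.nWordS K l) = D.nWordS K l := by
  rw [nWordS, map_list_prod, List.map_map]
  refine congrArg List.prod (List.map_congr_left fun i _ => ?_)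
  simp [nE, glMap_X]

theorem lang_pow [IsAlgClosed K] (p : ℕ) [Fact p.Prime] [CharP K p] {e : ℕ} (he : e ≠ 0)
    {y : GL D.Idx K} (hy : y ∈ TX D K S) :
    ∃ z ∈ TX D K S, y = z⁻¹ * GeneralLinearGroup.map (iterateFrobenius K p e) z := by
  obtain ⟨x, hx, t, ht, rfl⟩ := TX_factor hy
  rw [← range_torusHom] at ht
  obtain ⟨c, rfl⟩ := ht
  have hq : 0 < p ^ e - 1 := Nat.sub_pos_of_lt (Nat.one_lt_pow he (Fact.out : p.Prime).one_lt)
  have h1 : ∀ i, ∃ b : Kˣ, c i = b⁻¹ * Units.map (iterateFrobenius K p e : K →* K) b := fun i => by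
    obtain ⟨b, hb⟩ := IsAlgClosed.exists_pow_nat_eq (c i : K) hq
    have hb0 : b ≠ 0 := fun e => (c i).ne_zero (by rw [← hb, e, zero_pow hq.ne'])
    refine ⟨Units.mk0 b hb0, Units.ext ?_⟩
    have : p ^ e = (p ^ e - 1) + 1 := by omega
    simp only [Units.val_mul, Units.val_inv_eq_inv_val, Units.val_mk0, Units.coe_map,
      MonoidHom.coe_coe, iterateFrobenius_def]
    rw [this, pow_succ, hb]
    field_simp
  choose b hb using h1
  have ha : D.torusHom K b ∈ D.diagonalSubgroup K := SymAut.torusHom_mem b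
  have e1 : D.torusHom K c = (D.torusHom K b)⁻¹ *
      GeneralLinearGroup.map (iterateFrobenius K p e) (D.torusHom K b) := by
    rw [Th.glMap_torus, ← map_inv, ← map_mul]
    exact congrArg _ (funext hb)
  have h2 := XS_conj_H ha hx
  obtain ⟨z, hz, e2⟩ := D.lang_XS K p he S (g := ⟨_, XS_le_group S h2⟩) ((D.mem_XS_XG K).2 h2)
  have e3 : D.torusHom K b * x * (D.torusHom K b)⁻¹ =
      z.1⁻¹ * GeneralLinearGroup.map (iterateFrobenius K p e) z.1 := congrArg Subtype.val e2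
  refine ⟨z.1 * D.torusHom K b, mul_mem (Subgroup.mem_sup_left ((D.mem_XS_XG K).1 hz))
    (Subgroup.mem_sup_right ha), ?_⟩
  rw [map_mul, _root_.mul_inv_rev, mul_assoc, ← mul_assoc z.1⁻¹, ← e3, e1]
  group

end

omit hG in
theorem fr_pow {φ : Monoid.End (GL D.Idx K3)} (h : ∀ y, φ y = fr D y) (M : ℕ) (y : GL D.Idx K3) :
    (φ ^ M) y = GeneralLinearGroup.map (iterateFrobenius K3 3 M) y := by
  induction M with
  | zero => exact Units.ext (by ext; simp)
  | succ k ih =>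
    rw [pow_succ', Monoid.End.coe_mul, Function.comp_apply, ih, h]
    exact Units.ext (by ext; simp [coe_fr, iterateFrobenius_def, frobenius_def, pow_succ 3 k, pow_mul])

omit hG in
theorem frob_fix (y : GL D.Idx K3) :
    ∃ m, m ≠ 0 ∧ ∀ k, GeneralLinearGroup.map (iterateFrobenius K3 3 (m * k)) y = y := by
  choose m hm h using fun q : D.Idx × D.Idx => locFin_algebraicClosure (ZMod 3) 3 (y.val q.1 q.2)
  refine ⟨∏ q, m q, Finset.prod_ne_zero_iff.2 fun q _ => hm q, fun k => Units.ext (Matrix.ext fun i j => ?_)⟩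
  obtain ⟨c, hc⟩ := (Finset.dvd_prod_of_mem m (Finset.mem_univ (i, j))).mul_right k
  rw [hc]
  exact pow_pow_mul_eq (h (i, j)) c

omit hG in
theorem frob_fin {M : ℕ} (hM : M ≠ 0) {P : GL D.Idx K3 → Prop}
    (h : ∀ y, P y → GeneralLinearGroup.map (iterateFrobenius K3 3 M) y = y) : Finite {y // P y} := by
  have := finite_eqLocusField (Nat.one_lt_pow hM (by norm_num : 1 < 3)) (iterateFrobenius_def (R := K3) 3 M)
  exact Finite.of_injective (fun y (i j : D.Idx) => (⟨y.1.val i j,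
    congrArg (fun g : GL D.Idx K3 => g.val i j) (h _ y.2)⟩ :
      (iterateFrobenius K3 3 M).eqLocusField (RingHom.id K3)))
    fun y y' e => Subtype.ext (Units.ext (Matrix.ext fun i j =>
      congrArg Subtype.val (congrFun (congrFun e i) j)))

/-- Lang's theorem for the Frobenius map twisted by a monomial element. -/
theorem lang_TX {S : Set D.Rt} {n u u' : GL D.Idx K3} (hn : n ∈ D.monomialSubgroup K3)
    (hS : ∀ r, D.wOf K3 n r ∈ S ↔ r ∈ S) (hu : u ∈ TX D K3 S) (hu' : u' ∈ TX D K3 S) :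
    ∃ z ∈ TX D K3 S, fr D z * (u * n * u') * z⁻¹ ∈ D.monomialSubgroup K3 := by
  obtain ⟨h, hh, l, rfl⟩ := D.exists_eq_mul_nWordS K3 hn
  have hm := D.nWordS_mem K3 l
  rw [D.wOf_mul K3 ((D.rootBN K3).H_le_N hh) hm, D.wOf_H K3 hh, one_mul] at hS
  have hc : ∀ y ∈ TX D K3 S, (D.nWordS K3 l)⁻¹ * y * D.nWordS K3 l ∈ TX D K3 S := fun y hy => by
    simpa using TX_conj (inv_mem hm) (fun r hr => by
      rw [D.wOf_inv K3 hm, ← hS]; simpa using hr) hy
  have hp := fr_pow (D := D) (φ := fr D) fun _ => rfl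
  obtain ⟨z, hz, e⟩ := lang_twist (φ := fr D) (map_nWordS _ l) (fun y hy => hc _ (TX_map _ hy))
    (fun y => (frob_fix y).imp fun m h => ⟨h.1, fun k => (hp _ _).trans (h.2 k)⟩)
    (fun M hM => frob_fin hM fun y h => (hp _ _).symm.trans h)
    (fun M hM y hy => (lang_pow 3 hM hy).imp fun z h => ⟨h.1, h.2.trans (congrArg _ (hp _ _).symm)⟩)
    (inv_mem (mul_mem (hc _ (mul_mem hu (Subgroup.mem_sup_right hh))) hu'))
  refine ⟨z, hz, ?_⟩
  have e1 : fr D z = D.nWordS K3 l * z * ((D.nWordS K3 l)⁻¹ * (u * h) * D.nWordS K3 l * u')⁻¹ *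
      (D.nWordS K3 l)⁻¹ := by
    rw [e]; group; rfl
  rw [e1]
  convert hm using 1
  group

end Cfsg.Agent.FV
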