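import Mathlib
import Cfsg.Agent.FV.Cover
import Cfsg.Agent.FV.Std
import Cfsg.Agent.FV.Kempf
import Cfsg.Agent.FV.Lang
import Cfsg.Agent.FV.Tor
import Cfsg.Agent.FV.Irr

/-!
# Maximal subgroups of `E₈(3)` fixing a line of the adjoint module
-/

set_option autoImplicit false

namespace Cfsg.Agent.FV

open Cfsg.Lie Cfsg.Lie.ChevalleyDatum Cfsg.Agent.Chev Cfsg.Agent.Chev.Kac Matrix

section
variable {D : ChevalleyDatum} {K : Type*} [Field K]

theorem mv_mul (a b : GL D.Idx K) (v : D.Idx → K) : (a * b).val *ᵥ v = a.val *ᵥ (b.val *ᵥ v) :=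
  (Matrix.mulVec_mulVec _ _ _).symm

theorem mv_inv (a : GL D.Idx K) (v : D.Idx → K) : (a⁻¹).val *ᵥ (a.val *ᵥ v) = v := by
  rw [← mv_mul, inv_mul_cancel, Units.val_one, Matrix.one_mulVec]

theorem mv_eq_zero {a : GL D.Idx K} {v : D.Idx → K} (h : a.val *ᵥ v = 0) : v = 0 := by
  rw [← mv_inv a v, h, Matrix.mulVec_zero]

/-- The stabiliser of a subspace. -/
def Stb (W : Submodule K (D.Idx → K)) : Subgroup (GL D.Idx K) where
  carrier := {g | ∀ v, g.val *ᵥ v ∈ W ↔ v ∈ W}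
  one_mem' := by simp
  mul_mem' {a b} ha hb v := by rw [Units.val_mul, ← Matrix.mulVec_mulVec, ha, hb]
  inv_mem' {a} ha v := by rw [← ha, Matrix.mulVec_mulVec, Units.mul_inv, Matrix.one_mulVec]

theorem le_Stb {Γ : Type*} [Group Γ] {P : Subgroup Γ} {W : Submodule K (D.Idx → K)} (φ : Γ →* GL D.Idx K)
    (h : ∀ g ∈ P, ∀ v ∈ W, (φ g).val *ᵥ v ∈ W) : P ≤ (Stb W).comap φ := fun g hg v =>
  ⟨fun e => by simpa only [map_inv, mv_inv] using h _ (inv_mem hg) _ e, h g hg v⟩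

/-- The vectors of weight at least one. -/
def LW (f : D.Lat →+ ℝ) : Submodule K (D.Idx → K) where
  carrier := {v | Lge D f v}
  zero_mem' _ h := absurd rfl h
  add_mem' {v w} hv hw a h := by
    by_cases e : v a = 0
    · exact hw a (by simpa [e] using h)
    · exact hv a e
  smul_mem' _ _ hv a h := hv a (right_ne_zero_of_mul h)

theorem Std.smul {v : D.Idx → K} (h : Std D v) (c : K) : Std D (c • v) := fun r hr =>
  ⟨(Sup.smul h c r hr).1, by rw [rt_smul, (Sup.smul h c r hr).2, mul_zero]⟩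

theorem Lge.hp_eq {f : D.Lat →+ ℝ} {v : D.Idx → K} (h : Lge D f v) : hp D v = 0 := funext fun a => by
  rcases a with i | r
  · exact not_not.1 fun e => absurd (h _ e) (by simp [wtI])
  · rfl

theorem rt_eq_zero {v : D.Idx → K} (h : hp D v = 0) (r : ℕ) : rt D r v = 0 := by
  rw [← rt_hp, h]; simp [rt]

variable [hG : D.Good]

theorem pos_le {f : D.Lat →+ ℝ} (hf : ∀ i, 0 ≤ f (D.wt (D.sr i))) :
    D.posUnipotent K ≤ TX D K {r | 0 ≤ f (D.wt r)} :=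
  (D.posUnipotent_eq_XS K).le.trans ((XS_mono' fun _ hr => le_map_wt le_rfl hf hr).trans le_sup_left)

theorem Lge.std {f : D.Lat →+ ℝ} (hf : ∀ i, 0 ≤ f (D.wt (D.sr i))) {v : D.Idx → K} (h : Lge D f v) : Std D v :=
  fun r hr => ⟨by
    by_contra e
    have h1 := le_map_wt le_rfl hf ((D.isPos_ng r).2 e)
    have h2 : 1 ≤ f (D.wt r) := h _ hr
    rw [wt_ng, map_neg] at h1
    linarith, rt_eq_zero h.hp_eq r⟩

theorem TX_mulVec_hp {v : D.Idx → K} {c : GL D.Idx K} (hc : c ∈ TX D K {r | rt D r v = 0}) :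
    c.val *ᵥ hp D v = hp D v := by
  refine (sup_le (c := MulAction.stabilizer (GL D.Idx K) (hp D v)) (fun g hg => XS_mulVec_hp (fun _ h => h) hg)
    (fun g hg => funext fun a => ?_) :) hc
  obtain ⟨c, h1, h2⟩ := diag_mulVec hg
  rcases a with i | r
  · exact (h2 _ _).trans (by rw [h1, Units.val_one, one_mul])
  · exact (h2 _ _).trans (mul_zero _)

end

theorem seitz_core {H : Subgroup G0} (hH : IsCoatom H) {g n u u' : GL chevE8.Idx K3} (hg : g ∈ chevE8.group K3)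
    {S : Set chevE8.Rt} (hn : n ∈ chevE8.monomialSubgroup K3) (hS : ∀ r, chevE8.wOf K3 n r ∈ S ↔ r ∈ S)
    (hu : u ∈ TX chevE8 K3 S) (hu' : u' ∈ TX chevE8 K3 S) (e : fr chevE8 g * g⁻¹ = u * n * u')
    {W : Submodule K3 (chevE8.Idx → K3)} (h0 : W ≠ ⊥) (h1 : ∀ c ∈ TX chevE8 K3 S, ∀ v ∈ W, c.val *ᵥ v ∈ W)
    (h2 : ∀ h ∈ H, ∀ v ∈ W, (g * emb chevE8 h * g⁻¹).val *ᵥ v ∈ W)
    (h3 : ∀ r : chevE8.Rt, g.val *ᵥ chevE8.eN K3 r ∈ W → g.val *ᵥ chevE8.eN K3 (chevE8.ng r) ∈ W →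
      g.val *ᵥ chevE8.hV K3 (chevE8.cw r) ∉ W) :
    ∃ A ≤ H, IsMulCommutative A ∧ ¬ 3 ∣ Nat.card A ∧ 256 ≤ Nat.card A := by
  obtain ⟨z, hz, h4⟩ := lang_TX hn hS hu hu'
  obtain ⟨A, a1, a2, a3, a4⟩ := torus (mul_mem (TX_le_group S hz) hg) (by
    rwa [map_mul, _root_.mul_inv_rev, ← mul_assoc, mul_assoc _ _ g⁻¹, e])
  let φ := (MulAut.conj g).toMonoidHom.comp (emb chevE8)
  refine ⟨A, ((hH.le_iff.1 (le_Stb φ h2)).resolve_left fun h5 => ?_).symm ▸ le_Stb φ fun a ha => h1 _ ?_, a1, a2, a3⟩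
  · obtain ⟨r, b1, b2, b3⟩ := irr (W := W.comap (Matrix.mulVecLin g.val)) (fun a v hv => by
      have : (g * emb chevE8 a * g⁻¹).val *ᵥ _ ∈ W := ((h5 ▸ Subgroup.mem_top a : a ∈ (Stb W).comap φ) _).2 hv
      rwa [mv_mul, mv_mul, Matrix.mulVecLin_apply, mv_inv] at this)
      fun h6 => h0 (eq_bot_iff.2 fun v hv => mv_eq_zero (a := g⁻¹) ((Submodule.mem_bot K3).1 (h6.le (by
        rwa [Submodule.mem_comap, Matrix.mulVecLin_apply, ← mv_mul, mul_inv_cancel, Units.val_one,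
          Matrix.one_mulVec]))))
    exact h3 r b1 b2 b3
  · have := mul_mem (mul_mem (inv_mem hz) (le_sup_right (a := chevE8.XS K3 S) (a4 a ha))) hz
    convert this using 1
    simp [φ, mul_assoc]

/-- A maximal subgroup of `E₈(3)` fixing a line of the adjoint module contains a large abelian subgroup. -/
theorem seitz {H : Subgroup G0} (hH : IsCoatom H) {v : chevE8.Idx → ZMod 3} (hv : v ≠ 0)
    (hs : ∀ h ∈ H, ∃ c : ZMod 3, h.val.val *ᵥ v = c • v) :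
    ∃ A ≤ H, IsMulCommutative A ∧ ¬ 3 ∣ Nat.card A ∧ 256 ≤ Nat.card A := by
  obtain ⟨g₀, hg₀, h1⟩ := cover E83.two_ne (algebraMap _ K3 ∘ v)
  obtain ⟨u₀, hu₀, h2⟩ := exists_std h1
  have key : ∀ g : GL chevE8.Idx K3, g.val *ᵥ (algebraMap _ K3 ∘ v) ≠ 0 ∧
      (fr chevE8 g * g⁻¹).val *ᵥ (g.val *ᵥ (algebraMap _ K3 ∘ v)) =
        frobenius K3 3 ∘ (g.val *ᵥ (algebraMap _ K3 ∘ v)) ∧ ∀ h ∈ H, ∃ c : K3,
        (g * emb chevE8 h * g⁻¹).val *ᵥ (g.val *ᵥ (algebraMap _ K3 ∘ v)) = c • g.val *ᵥ (algebraMap _ K3 ∘ v) :=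
    fun g => ⟨fun e => hv (funext fun a => (map_eq_zero _).1 (congrFun (mv_eq_zero e) a)), by
      rw [← fr_mulVec, Matrix.mulVec_mulVec, ← Units.val_mul, inv_mul_cancel_right]
      exact congrArg _ (funext fun a => ((frob_eq_iff _).2 ⟨_, rfl⟩).symm), fun h hh => by
      obtain ⟨c, hc⟩ := hs h hh
      refine ⟨algebraMap _ _ c, ?_⟩
      rw [Matrix.mulVec_mulVec, ← Units.val_mul, inv_mul_cancel_right, Units.val_mul, ← Matrix.mulVec_mulVec,
        emb_mulVec, hc, ← Matrix.mulVec_smul]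
      exact congrArg _ (funext fun a => map_mul _ _ _)⟩
  have hU : chevE8.posUnipotent K3 ≤ chevE8.group K3 := (chevE8.rootBN K3).U_le_G
  have hc : ∀ {g}, g ∈ chevE8.group K3 → fr chevE8 g * g⁻¹ ∈ chevE8.group K3 ∧
      ∀ h, g * emb chevE8 h * g⁻¹ ∈ chevE8.group K3 := fun hg =>
    ⟨mul_mem (fr_mem hg) (inv_mem hg), fun h => mul_mem (mul_mem hg (emb_mem h)) (inv_mem hg)⟩
  rw [Matrix.mulVec_mulVec, ← Units.val_mul] at h2
  have hg := mul_mem (hU hu₀) hg₀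
  generalize u₀ * g₀ = g at h2 hg
  obtain ⟨k1, k2, k3⟩ := key g
  by_cases h0 : hp chevE8 (g.val *ᵥ (algebraMap _ K3 ∘ v)) = 0
  · obtain ⟨g₁, hg₁, f, hf, h3, h4⟩ := kempf_vec k1 h0 h2.pos
    rw [Matrix.mulVec_mulVec, ← Units.val_mul] at h3 h4
    obtain ⟨l1, l2, l3⟩ := key (g₁ * g)
    obtain ⟨c1, c2⟩ := hc (mul_mem hg₁ hg)
    obtain ⟨u, hu, n, hn, u', hu', e, h5⟩ := h4 _ c1 (l2 ▸ fun a ha => h3 a fun e => ha ((map_eq_zero _).2 e))
    refine seitz_core hH (mul_mem hg₁ hg) hn (fun r => by simp only [Set.mem_ofPred_eq, h5]) (pos_le hf hu) (pos_le hf hu') e (W := LW f)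
      ((Submodule.ne_bot_iff _).2 ⟨_, h3, l1⟩) (fun c hc v hv => Lge.TX hc hv) (fun h hh w hw => ?_)
      fun r _ _ h6 => ?_
    · obtain ⟨c, h6⟩ := l3 h hh
      obtain ⟨u, hu, n, hn, u', hu', e, h5⟩ := h4 _ (c2 h) (h6 ▸ (LW f).smul_mem c h3)
      rw [e, Units.val_mul, Units.val_mul, ← Matrix.mulVec_mulVec, ← Matrix.mulVec_mulVec]
      exact Lge.TX (pos_le hf hu) ((Lge.TX (pos_le hf hu') hw).mono_mulVec hn h5)
    · have h7 : Sup chevE8 ∅ (chevE8.hV K3 (chevE8.cw r)) := fun s hs => absurd (hV_inr _ _ _ s) hs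
      obtain ⟨-, -, n, -, -, -, -, h8⟩ := transport (mul_mem hg₁ hg) (h7.mono (Set.empty_subset _)) (Lge.std hf h6)
      rw [hp_eq_self h7, Lge.hp_eq h6] at h8
      exact chevE8.hV_cw_ne_zero K3 r (mv_eq_zero h8)
  · obtain ⟨c1, c2⟩ := hc hg
    generalize g.val *ᵥ (algebraMap _ K3 ∘ v) = b at h0 h2 k1 k2 k3
    have h3 : ∀ r : ℕ, rt chevE8 r (frobenius K3 3 ∘ b) = 0 ↔ rt chevE8 r b = 0 := fun r => by
      rw [rt_map, map_eq_zero]
    have h4 : ∀ {w : chevE8.Idx → K3}, chevE8.XS K3 (Zr chevE8 w) ≤ TX chevE8 K3 {r | rt chevE8 r w = 0} :=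
      fun {_} => (XS_mono' (T := {r | _}) fun _ h => h.2).trans le_sup_left
    obtain ⟨u, hu, n, hn, u', hu', e, h5⟩ := transport c1 h2 (k2 ▸ fun r hr => by
      have := h2 r fun e => hr ((map_eq_zero _).2 e)
      exact ⟨this.1, (h3 r).2 this.2⟩)
    rw [k2] at hu h5
    refine seitz_core hH hg hn (S := {r | rt chevE8 r b = 0}) (fun r => ?_) (by simpa [h3] using h4 hu) (h4 hu') e
      (W := K3 ∙ hp chevE8 b) (by simpa using h0) (fun c hc w hw => ?_) (fun h hh w hw => ?_) fun r h6 h7 _ => ?_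
    · rw [Set.mem_ofPred_eq, ← h3, ← rt_hp, ← h5, rt_mono hn]; rfl
    · obtain ⟨a, rfl⟩ := Submodule.mem_span_singleton.1 hw
      rwa [Matrix.mulVec_smul, TX_mulVec_hp hc]
    · obtain ⟨a, rfl⟩ := Submodule.mem_span_singleton.1 hw
      obtain ⟨c, h6⟩ := k3 h hh
      obtain ⟨u, hu, n, hn, u', hu', e, h5⟩ := transport (c2 h) h2 (h6 ▸ h2.smul c)
      rw [Matrix.mulVec_smul, e, Units.val_mul, Units.val_mul, ← Matrix.mulVec_mulVec, ← Matrix.mulVec_mulVec,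
        TX_mulVec_hp (h4 hu'), h5, TX_mulVec_hp (h4 hu), h6, hp_smul]
      exact Submodule.smul_mem _ _ (Submodule.smul_mem _ _ (Submodule.mem_span_singleton_self _))
    · obtain ⟨a, ha⟩ := Submodule.mem_span_singleton.1 h6
      obtain ⟨a', ha'⟩ := Submodule.mem_span_singleton.1 h7
      have h9 := congrFun (mv_inv g (chevE8.eN K3 r)).symm
      have h10 := congrFun (mv_inv g (chevE8.eN K3 (chevE8.ng r))).symm
      simp only [← ha, ← ha', Matrix.mulVec_smul, Pi.smul_apply, smul_eq_mul] at h9 h10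
      have b1 := h9 (.inr r)
      have b2 := h9 (.inr (chevE8.ng r))
      have b3 := h10 (.inr (chevE8.ng r))
      rw [eN_inr, if_pos rfl] at b1 b3
      rw [eN_inr, if_neg (chevE8.ng_ne r), zero_eq_mul] at b2
      rcases b2 with b2 | b2
      · exact one_ne_zero (b1.trans (by rw [b2, zero_mul]))
      · exact one_ne_zero (b3.trans (by rw [b2, mul_zero]))

end Cfsg.Agent.FV
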