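import Mathlib
import Cfsg.Agent.E83.Kac

/-!
# Fixed spaces of elements of order 7 and 13 of `E₈(3)` on the adjoint module
-/

set_option autoImplicit false
set_option maxRecDepth 100000

namespace Cfsg.Agent.FV

open Cfsg.Lie Cfsg.Lie.ChevalleyDatum Cfsg.Agent.Chev Cfsg.Agent.Chev.Chk Cfsg.Agent.Chev.Alc Cfsg.Agent.Chev.Kac
  Cfsg.Agent.E83 Matrix Module

/-- the check for elements conjugate to their cubes -/
noncomputable def kchkK (n : ℕ) (L : List ℕ) : Bool :=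
  forceT tlK fun tl => allS [2, 3, 4, 6, 5, 4, 3, 2] n fun s =>
    !Nat.beq (sumT pw tl s n 1) (sumT pw tl s n 3) || decide ((∀ t ∈ s, n ∣ t) ∨ sumT (ind 0) tl s n 1 ∈ L)

open Classical in
theorem kacK {n : ℕ} (hm : n ∣ 1820) {x : St} (hx : x ^ n = 1) (h1 : x ≠ 1) {L : List ℕ} (h : kchkK n L = true) :
    fd ⊤ (rho x) ∈ L := by
  have hn : 0 < n := Nat.pos_of_dvd_of_pos hm (by norm_num)
  have hc3 : n.Coprime 3 := (show Nat.Coprime 1820 3 by norm_num).coprime_dvd_left hm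
  obtain ⟨ξ, hξ⟩ := exists_primRoot (ZMod 3) 3 hc3
  obtain ⟨A, hA⟩ : ∃ A : Multiset ℕ, (ad3 x).charpoly.roots = A.map (ξ ^ ·) := by
    have : CanLift K3 ℕ (ξ ^ ·) fun μ => ∃ i, ξ ^ i = μ := ⟨fun _ h => h⟩
    refine ((Multiset.canLift (ξ ^ ·) fun μ => ∃ i, ξ ^ i = μ).prf _ fun μ hμ => ?_).imp fun _ => Eq.symm
    have h2 := eig_count hc3 hx μ
    obtain ⟨v, hv, h0⟩ := Submodule.exists_mem_ne_zero_of_ne_bot (p := End.eigenspace (rho x) μ) fun e => by
      rw [e, finrank_bot] at h2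
      exact Multiset.count_ne_zero.2 hμ h2.symm
    have h3 := End.HasEigenvector.pow_apply ⟨hv, h0⟩ n
    rw [← map_pow, hx, map_one, End.one_apply] at h3
    have : NeZero n := ⟨hn.ne'⟩
    exact (hξ.eq_pow_of_pow_eq_one (smul_left_injective K3 h0 (h3.symm.trans (one_smul _ _).symm))).imp
      fun _ h => h.2
  obtain ⟨s, h2, h3, h4, h5, h6⟩ := exists_kac hm hξ hx hA
  rw [kchkK, forceT_eq] at h
  have h7 := allS_spec (by decide) h h2 h3
  simp only [h5, Nat.beq_refl, Bool.not_true, Bool.false_or, decide_eq_true_eq] at h7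
  have h8 := count_eq_sumT hξ tlK s 1 hn
  have h9 : A.map (ξ ^ ·) = (tlK.map fun c => ξ ^ (1 * dotL c s) : List K3) := by
    have := congrArg (Multiset.map (ξ ^ ·)) h4
    simpa [Function.comp_def, hξ.eq_orderOf, pow_mod_orderOf] using this
  rw [← h9, ← hA, ← eig_count hc3 hx, pow_zero, End.eigenspace_def, one_smul] at h8
  rw [fd, top_inf_eq, fx, h8]
  exact h7.resolve_left fun h => h1 (by simpa using h6 1 (by simpa using h))

theorem kac7L {x : St} (hx : x ^ 7 = 1) (h1 : x ≠ 1) : fd ⊤ (rho x) ∈ [38, 80] :=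
  kacK (by norm_num) hx h1 (by decide +kernel)

theorem kac13L {x : St} (hx : x ^ 13 = 1) (h1 : x ≠ 1) : fd ⊤ (rho x) ∈ [20, 32, 38, 80] :=
  kacK (by norm_num) hx h1 (by decide +kernel)

theorem kac7 {x : St} (hx : x ^ 7 = 1) (h1 : x ≠ 1) : 35 ≤ fd ⊤ (rho x) := by
  have := kac7L hx h1
  simp only [List.mem_cons, List.not_mem_nil, or_false] at this
  omega

end Cfsg.Agent.FV
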