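import Mathlib
import Cfsg.Agent.E83.Use
import Cfsg.Agent.E83.Mat
import Cfsg.Agent.FV.Form
import Cfsg.Agent.FV.Kac7

/-!
# A subgroup `L₂(7)` of `E₈(3)` fixes a vector of the adjoint module
-/

set_option autoImplicit false
set_option maxRecDepth 100000

namespace Cfsg.Agent.FV

open Cfsg.Agent.Spor Cfsg.Agent.Cl Cfsg.Agent.E83 Cfsg.Agent.Spor.PM Cfsg.Agent.Perm.SM Module Matrix

theorem finrank_ineq {K V : Type*} [Field K] [AddCommGroup V] [Module K V] [FiniteDimensional K V]
    {ψ₁ ψ₂ θ₁ θ₂ : End K V} {U W Z : Submodule K V} (h1 : ∀ v, θ₁ v ∈ W ∧ θ₂ v ∈ W)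
    (h2 : ∀ v ∈ U, θ₁ v = 0 → θ₂ v = 0 → v = 0) (h3 : ∀ v ∈ U, ψ₁ (θ₁ v) + ψ₂ (θ₂ v) = 0)
    (h4 : Z ≤ W.map ψ₁ ⊔ W.map ψ₂) : finrank K U + finrank K Z ≤ 2 * finrank K W := by
  let Ψ := (ψ₁.domRestrict W).coprod (ψ₂.domRestrict W)
  have h5 := Ψ.finrank_range_add_finrank_ker
  have h6 := Submodule.finrank_mono (h4.trans_eq (show _ = LinearMap.range Ψ by
    rw [LinearMap.range_coprod, LinearMap.range_domRestrict, LinearMap.range_domRestrict]))
  have h7 := LinearMap.finrank_le_finrank_of_injective (f := ((((θ₁.codRestrict W fun v => (h1 v).1).prod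
    (θ₂.codRestrict W fun v => (h1 v).2)).domRestrict U).codRestrict (LinearMap.ker Ψ) fun v => h3 v v.2))
    ((injective_iff_map_eq_zero _).2 fun v hv => Subtype.ext (h2 v v.2
      (congrArg (fun x => x.1.1.1) hv) (congrArg (fun x => x.1.2.1) hv)))
  rw [finrank_prod] at h5
  omega

variable {μ : ℕ → ℕ → ℕ} {ok : ℕ → Bool} {e : ℕ}

/-- products of two lists -/
def pr (μ : ℕ → ℕ → ℕ) (L L' : List ℕ) : List ℕ := L.flatMap fun a => L'.map (μ a)

/-- transport of a model -/
def mapM {G G' : Type*} [Group G] [Group G'] (M : Mdl μ ok e G) (φ : G →* G') (hφ : Function.Injective φ) :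
    Mdl μ ok e G' :=
  ⟨M.Ok, fun a => φ (M.gx a), M.ok_e, by rw [M.gx_e, map_one], M.par_e, M.ok_mu,
    fun a b => by rw [M.gx_mu a b, map_mul], M.par_mu, fun h => ⟨(M.half h).1, by rw [(M.half h).2]⟩, M.ok_ok,
    fun a b h => M.comm a b ((map_eq_one_iff φ hφ).1 h)⟩

theorem pr_spec (M : Mdl μ ok e St) {L L' : List ℕ} {f f' : End Chev.Kac.K3 LL}
    (h : (∀ a ∈ L, M.Ok a) ∧ M.nrm rho L = f) (h' : (∀ a ∈ L', M.Ok a) ∧ M.nrm rho L' = f') :
    (∀ a ∈ pr μ L L', M.Ok a) ∧ M.nrm rho (pr μ L L') = f * f' := by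
  obtain ⟨h, rfl⟩ := h
  obtain ⟨h', rfl⟩ := h'
  refine ⟨by simpa [pr] using fun _ a ha b hb e => e ▸ M.ok_mu (h a ha) (h' b hb), ?_⟩
  induction L with
  | nil => simp [pr, Mdl.nrm]
  | cons a L ih =>
    have := ih fun b hb => h b (by simp [hb])
    simp only [pr, Mdl.nrm, List.flatMap_cons, List.map_append, List.sum_append, List.map_cons, List.sum_cons,
      add_mul, List.map_map] at this ⊢
    rw [this, ← List.sum_map_mul_left L' _ (M.op rho a)]
    exact congrArg (· + _) (congrArg _ (List.map_congr_left fun b hb => Mdl.op_mu (h a (by simp)) (h' b hb)))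

theorem app_spec (M : Mdl μ ok e St) {L L' : List ℕ} {f f' : End Chev.Kac.K3 LL}
    (h : (∀ a ∈ L, M.Ok a) ∧ M.nrm rho L = f) (h' : (∀ a ∈ L', M.Ok a) ∧ M.nrm rho L' = f') :
    (∀ a ∈ L ++ L', M.Ok a) ∧ M.nrm rho (L ++ L') = f + f' :=
  ⟨List.forall_mem_append.2 ⟨h.1, h'.1⟩, by rw [← h.2, ← h'.2]; simp [Mdl.nrm]⟩

theorem sub_spec (M : Mdl μ ok e St) {a : ℕ} (h : M.Ok a) :
    (∀ b ∈ [a, e + 1], M.Ok b) ∧ M.nrm rho [a, e + 1] = M.op rho a - 1 := by
  have h1 : e / 2 = (e + 1) / 2 := by have := M.par_e; omega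
  refine ⟨by simpa using ⟨h, (M.half h1).1 M.ok_e⟩, ?_⟩
  simp [Mdl.nrm, Mdl.op_half h1.symm, Mdl.op_e, show e + 1 + e = 2 * e + 1 by ring, pow_succ, pow_mul, sub_eq_add_neg]

theorem fix_gen (M : Mdl μ ok e St) {labs R : List (ℕ × ℕ × ℕ)} {lD lL T₁ T₃ B₁ B₂ : List ℕ}
    {a w r x₁ x₂ y₁ y₂ c₁ c₂ c₃ : ℕ}
    (k₁ : certOK μ ok e [e] T₁ (span μ e lD) 21 [(pr μ [w, e + 1] (pr μ (pows μ e a 7)
      (pr μ [y₁] (pr μ (span μ e lL) [x₁]) ++ pr μ [y₂] (pr μ (span μ e lL) [x₂]))), [(e, e, c₁)])] = true)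
    (k₂ : certOK μ ok e [e] T₁ (span μ e lD) 21 [([a, e + 1], [(e, e, c₂)]), (span μ e lL, R)] = true)
    (k₃ : certOK μ ok e (pows μ e a 7) T₃ [e] 24 [([w, e + 1] ++ (pr μ [y₁] (pr μ (span μ e lL) B₁) ++
      pr μ [y₂] (pr μ (span μ e lL) B₂)), [(e, e, c₃)])] = true)
    (hlab : labsOK μ ok e [e, w, r] labs = true) (c0 : dimOK μ ok e labs 3 lD [1, 5, 2] [] = true)
    (c1 : dimOK μ ok e labs 3 lL [1, 3] [0, 2, 2] = true) (c2 : kacOK μ ok e [e, w, r] labs 3 a 1 0 0 = true)
    (c3 : kacOK μ ok e [e, w, r] labs 3 a 2 1 0 = true) (c4 : ordOK μ ok e 7 a w = true)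
    (c5 : allL [w, x₁, x₂, y₁, y₂] ok = true ∧ allL lD ok = true ∧ allL lL ok = true ∧ allL B₁ ok = true ∧
      allL B₂ ok = true)
    (c6 : a % 2 = 0 ∧ w % 2 = 0 ∧ lD.length = 3 ∧ lL.length = 3 ∧ w ∈ lD ∧ pw μ e a 7 = e ∧
      ∀ t ∈ R, t.2.1 = x₁ ∨ t.2.1 = x₂) :
    ∃ v : LL, v ≠ 0 ∧ rho (M.gx a) v = v ∧ rho (M.gx w) v = v := by
  by_contra! hf
  have hfix : ∀ v, M.op rho a v = v → M.op rho w v = v → v = 0 := fun v h1 h2 => by
    by_contra h3
    exact hf v h3 (by rwa [← Mdl.op_even c6.1]) (by rwa [← Mdl.op_even c6.2.1])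
  have d0 := M.dim_of (ρ := rho) two_ne hlab c0
  have d1 := M.dim_of (ρ := rho) two_ne hlab c1
  have k1 := M.kac_of hlab c2
  have k2 := M.kac_of hlab c3
  obtain ⟨oa, k3, k4⟩ := M.ord_of c4
  have k5 := kac7 k3 k4
  have ho := oks M c5.1
  simp only [List.forall_mem_cons, List.not_mem_nil, false_imp_iff, implies_true] at ho
  obtain ⟨ow, ox₁, ox₂, oy₁, oy₂, -⟩ := ho
  have s1 : ∀ {x}, M.Ok x → (∀ b ∈ [x], M.Ok b) ∧ M.nrm rho [x] = M.op rho x := fun h => by simpa [Mdl.nrm] using h
  have sL := And.intro (fun b hb => ((Mdl.span_spec (ρ := rho) (oks M c5.2.2.1)).1 b hb).1)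
    (rfl : M.nrm rho (span μ e lL) = _)
  have sA := Mdl.pows_absorb (ρ := rho) oa c6.2.2.2.2.2.1
  have sD := fun v hv b hb => ((Mdl.span_spec (ρ := rho) (oks M c5.2.1)).1 b hb).imp_right (· v hv)
  have s0 : ∀ b ∈ [e], M.Ok b ∧ 1 * M.op rho b = 1 := by simpa [Mdl.op_e] using M.ok_e
  generalize hP : M.nrm rho (pows μ e a 7) = P at sA
  have h := finrank_ineq (ψ₁ := P * M.op rho y₁) (ψ₂ := P * M.op rho y₂)
    (θ₁ := M.nrm rho (span μ e lL) * M.op rho x₁) (θ₂ := M.nrm rho (span μ e lL) * M.op rho x₂)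
    (U := M.fix rho lD) (W := M.fix rho lL) (Z := ⊤ ⊓ fx (rho (M.gx a))) (fun v => ⟨d1.1 _, d1.1 _⟩)
    (fun v hv h1 h2 => hfix v (by
      have := Mdl.cert_of k₂ s0 (sD v hv) (sub_spec M oa).1 (by
        simp only [List.forall_mem_singleton]
        exact ⟨sL.1, fun t ht => by rcases c6.2.2.2.2.2.2 t ht with h | h <;> rwa [h]⟩)
      rwa [(sub_spec M oa).2, End.one_apply, LinearMap.sub_apply, sub_eq_zero] at this)
      (Mdl.mem_fix.1 hv w c6.2.2.2.2.1))
    (fun v hv => by
      have h1 := pr_spec M (sub_spec M ow) (pr_spec M ⟨fun b hb => (sA.1 b hb).1, hP⟩ (app_spec M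
        (pr_spec M (s1 oy₁) (pr_spec M sL (s1 ox₁))) (pr_spec M (s1 oy₂) (pr_spec M sL (s1 ox₂)))))
      have h2 := Mdl.cert_of k₁ s0 (sD v hv) h1.1 (by simp)
      rw [h1.2, End.one_apply, End.mul_apply, LinearMap.sub_apply, sub_eq_zero] at h2
      simpa using hfix _ (mem_fx.1 (sA.2 _)) h2)
    fun z hz => by
      have h1 : ((M.fix rho lL).map (P * M.op rho y₁) ⊔ (M.fix rho lL).map (P * M.op rho y₂)).comap P = ⊤ := by
        by_contra h1
        obtain ⟨φ, h2, h3⟩ := Submodule.exists_le_ker_of_lt_top _ (lt_top_iff_ne_top.2 h1)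
        obtain ⟨v, h4, h5⟩ := fix_of_cofix (S := {M.gx a, M.gx w}) h2 (by
          rintro _ (rfl | rfl) <;> refine LinearMap.ext fun v => sub_eq_zero.1 ((map_sub φ _ _).symm.trans (h3 ?_))
          · have h4 := (sA.1 _ (List.mem_map_of_mem (List.mem_range.2 (show 1 < 7 by norm_num)))).2
            rw [(Mdl.pw_spec oa 1).2.2, pow_one, Mdl.op_even c6.1] at h4
            rw [Submodule.mem_comap, map_sub, ← End.mul_apply, h4, sub_self]
            exact zero_mem _
          · have h4 := app_spec M (sub_spec M ow) (app_spec M (pr_spec M (s1 oy₁) (pr_spec M sL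
              ⟨oks M c5.2.2.2.1, rfl⟩)) (pr_spec M (s1 oy₂) (pr_spec M sL ⟨oks M c5.2.2.2.2, rfl⟩)))
            have h5 := Mdl.cert_of k₃ sA.1 (v := v) (by simpa [Mdl.op_e] using M.ok_e) h4.1 (by simp)
            rw [h4.2, LinearMap.add_apply, map_add, add_eq_zero_iff_eq_neg, Mdl.op_even c6.2.1] at h5
            rw [Submodule.mem_comap]
            refine h5 ▸ neg_mem ?_
            rw [LinearMap.add_apply, map_add]
            exact Submodule.add_mem_sup ⟨_, d1.1 _, rfl⟩ ⟨_, d1.1 _, rfl⟩)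
        exact hf v h4 (h5 _ (.inl rfl)) (h5 _ (.inr rfl))
      have h2 := (Mdl.pows_fix (ρ := rho) oa 7 (v := z) (by rw [Mdl.op_even c6.1]; exact hz.2)).2
      have h3 := Submodule.mem_comap.1 (h1.ge (Submodule.mem_top (x := z)))
      rwa [← hP, h2, hP, Submodule.smul_mem_iff _ (fun h => absurd
        ((CharP.cast_eq_zero_iff Chev.Kac.K3 3 7).1 h) (by norm_num))] at h3
  simp only [Finset.sum_range_succ, Finset.sum_range_zero, List.getD_cons_zero, List.getD_cons_succ, List.getD_nil,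
    M.tr_e, c6.2.2.1, c6.2.2.2.1, kacL, List.mem_cons, Prod.mk.injEq, List.not_mem_nil] at d0 d1 k1 k2
  have := d0.2
  have := d1.2
  rw [fd] at k5
  norm_num at k1 k2
  omega

/-- membership test for `SL₂(7)` -/
def ok7 (a : ℕ) : Bool := decide ((matOf gf7 (Equiv.refl (Fin 2)) (a / 2) 0 0 * matOf gf7 (Equiv.refl (Fin 2)) (a / 2) 1 1 -
  matOf gf7 (Equiv.refl (Fin 2)) (a / 2) 0 1 * matOf gf7 (Equiv.refl (Fin 2)) (a / 2) 1 0) = 1)

theorem mdl7 : Nonempty (Mdl (pmu gf7 2 [6]) ok7 0x2000002 (ProjectiveSpecialLinearGroup (Fin 2) GF7)) :=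
  exists_mdl (Equiv.refl _) (by decide) (slToMat 2 GF7) (fun _ _ h => Subtype.ext h) (QuotientGroup.mk' _)
    (fun g => by simp) (fun c hc => by
      obtain rfl : c = 6 := by simpa using hc
      exact ⟨by decide, -1, by decide +kernel⟩)
    (fun a h => exists_sl (by rw [det_fin_two]; exact of_decide_eq_true h)) ⟨rfl, by decide +kernel⟩

theorem fix_mdl (M : Mdl (pmu gf7 2 [6]) ok7 0x2000002 St) :
    ∃ v : LL, v ≠ 0 ∧ rho (M.gx 0x2000202) v = v ∧ rho (M.gx 0x20c00) v = v :=
  fix_gen M (lD := [0x4040a04, 0x406060a, 0x20c00]) (lL := [0x4040a05, 0x406060a, 0x20c00]) (r := 0x4040a04)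
    (x₁ := 0x20c04) (x₂ := 0x40602) (y₁ := 0x40600) (y₂ := 0x60400) (B₁ := [0x20c0d, 0x40601, 0x40605, 0x60400, 0x6040d])
    (B₂ := [0x20c09, 0x4060d, 0x6040a])
    (T₁ := [0x20c00, 0x20c02, 0x20c04, 0x20c06, 0x20c08, 0x20c0a, 0x20c0c, 0x40600, 0x40602, 0x40604, 0x40606, 0x40608, 0x4060a, 0x4060c, 0x60400, 0x60402, 0x60404, 0x60406, 0x60408, 0x6040a, 0x6040c])
    (T₃ := [0x20c00, 0x40600, 0x60400, 0x2000002, 0x2020002, 0x2040002, 0x2060002, 0x2080002, 0x20a0002, 0x20c0002, 0x4000008, 0x4020008, 0x4040008, 0x4060008, 0x4080008, 0x40a0008, 0x40c0008, 0x600000a, 0x602000a, 0x604000a, 0x606000a, 0x608000a, 0x60a000a, 0x60c000a])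
    (labs := [(0x1000001, 0, 0x20c00), (0x10600, 1, 0x20c00), (0x2030305, 1, 0x60402), (0x3050504, 1, 0x40602), (0x2020502, 2, 0x20c00), (0x2050202, 2, 0x406060a), (0x3020204, 1, 0x4060c), (0x2040405, 1, 0x6040c)])
    (R := [(0x40605, 0x20c04, 0x10f00051300020600040800061100070100000a00030300), (0x60400, 0x20c04, 0x10100050600020d00041200060000070700001100030800), (0x20c00, 0x40602, 0x40f00070f00050f00060f00010800020800000800030800), (0x20c0c, 0x40602, 0x41300071300051300061300010d00020d00000d00030d00), (0x40606, 0x40602, 0x40100070100050100060100011200021200001200031200), (0x60406, 0x40602, 0x40700070700050700060700010300020300000300030300), (0x60409, 0x40602, 0x40a00070a00050a00060a00010100020100000100030100)])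
    (c₁ := 0x40a00070a00050a00060a00010100020100000100030100011000051400020400040b00061200070600000d00030100040800070800050800060800010000020000000000030000011400051100020300040900060f00070500000b00030000040d00070d00050d00060d00010600020600000600030600011100050e00020200040700061300070400000900030600040b00070b00050b00060b00010500020500000500030500010e00051200020100040c00061000070300000700030500040900070900050900060900010400020400000400030400011200050f00020000040a00061400070200000c00030400040700070700050700060700010300020300000300030300010f00051300020600040800061100070100000a00030300040c00070c00050c00060c00010200020200000200030200011300051000020500040d00060e00070000000800030200000b00030b00010b00020b00051000061000041000071000040100021400050900010a00000500031300060d00071000060800050800070800040800000000030000010000020000061400070200000c00030400050f00011200040a00020000020d00010d00030d00000d00041300071300051300061300020200040700011100050e00030600000900070400061300010a00020a00000a00030a00071200041200061200051200000700030500061000070300020100040c00010e00051200030400000400020400010400060900050900070900040900070500060f00030000000b00011400051100020300040900050e00060e00040e00070e00030c00000c00020c00010c00030f00000600071300060800040200021000050b00010c00070300040300060300050300021100011100031100001100050600010100041200020d00070700060000030800001100)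
    (c₂ := 0x10000010100)
    (c₃ := 0x1001001301000801001205000305000f05000b04001204000504000c03001503000703001102000702000a02000e06001406000406000102000005000202000900000e00001300000304000704000b04000c04001304000e06000f06001406001206000706000402000802000f02001002001102000805000505000a05000b05001705000b01000c01001201001701000801000903000603000e03000f03001503000004000000000202000200000105001300001100000600000300000c00000300000000)
    (by decide +kernel) (by decide +kernel) (by decide +kernel) (by decide +kernel) (by decide +kernel)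
    (by decide +kernel) (by decide +kernel) (by decide +kernel) (by decide +kernel) (by decide +kernel)
    (by decide +kernel)

end Cfsg.Agent.FV
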